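import Mathlib
import Cfsg.Prelude.Def_FusionReduction
import Cfsg.Agent.Helper4.FusTrC

set_option autoImplicit false

/-!
# S5202 (reduction along a `p`-solvable quotient of `Aut_F(T)`), part A: definitions

See `notes/S5202_helper9.md`.  The ambient system `Fa` over `S₀` is fixed; the induction runs over the
subsystems `F'` in the context `Ctx p Fa E F'`.
-/

namespace Cfsg.Agent.RSL

open Cfsg Cfsg.FusionSystem

section grp

variable {Γ : Type*} [Group Γ]

/-- `A O^{p'}(G)`: generated by `A` and the elements of `p`-power order of `G`. -/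
def rslKq (p : ℕ) (A G : Subgroup Γ) : Subgroup Γ :=
  A ⊔ Subgroup.closure {g | g ∈ G ∧ ∃ k : ℕ, orderOf g = p ^ k}

/-- `A O^{p}(G)`: generated by `A` and the elements of order prime to `p` of `G`. -/
def rslKp (p : ℕ) (A G : Subgroup Γ) : Subgroup Γ :=
  A ⊔ Subgroup.closure {g | g ∈ G ∧ (orderOf g).Coprime p}

end grp

variable {Ω : Type*} [Group Ω]

/-- The inductive context: `F'` is a saturated subsystem over `S'`, invariant in the ambient system,
in which `E` is normal. -/
structure Ctx (p : ℕ) {S₀ S' T : Subgroup Ω} (Fa : FusionSystem S₀) (E : FusionSystem T)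
    (F' : FusionSystem S') : Prop where
  sat : F'.IsSaturated p
  inv : F'.IsInvariantIn Fa
  nrm : E.IsNormalIn F' p

/-- Two systems have residual limits with the same maps. -/
def SameLimit (p : ℕ) {S₁ S₂ : Subgroup Ω} (F₁ : FusionSystem S₁) (F₂ : FusionSystem S₂) : Prop :=
  ∀ {U V : Subgroup Ω} (L₁ : FusionSystem U) (L₂ : FusionSystem V),
    L₁.IsResidualLimitOf F₁ p → L₂.IsResidualLimitOf F₂ p → ∀ P : Subgroup Ω, L₁.Hom P = L₂.Hom P

/-- `F₁` is stable under the `Fa`-automorphisms of `S'`. -/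
def rslStable {S₀ S₁ : Subgroup Ω} (Fa : FusionSystem S₀) (S' : Subgroup Ω)
    (F₁ : FusionSystem S₁) : Prop :=
  ∀ α : MulAut ↥S', α ∈ Fa.autGroup S' →
    Cfsg.Agent.Helper4.FusTr.Img (W := S') (W' := S') α F₁ F₁

end Cfsg.Agent.RSL
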