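import Mathlib
import Cfsg.Prelude.Def_FusionReduction
import Cfsg.Agent.RSL.Basic
import Cfsg.Agent.Lead.FusionStrongInvD
import Cfsg.Agent.Helper4.FusTrC

set_option autoImplicit false

/-!
# S5202, part T: transitivity of invariance for automorphism-stable subsystems
-/

namespace Cfsg.Agent.RSL

open Cfsg Cfsg.FusionSystem Cfsg.Agent.Lead Cfsg.Agent.Lead.StrongInv Cfsg.Agent.Helper4.FusTr

variable {Ω : Type*} [Group Ω]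

/-- a stable system lives over a stable subgroup -/
theorem rslStable_map_mem {S₀ S' S₁ : Subgroup Ω} {Fa : FusionSystem S₀} {F₁ : FusionSystem S₁}
    (hst : rslStable Fa S' F₁) (α : MulAut ↥S') (hα : α ∈ Fa.autGroup S') {y : Ω} (hy : y ∈ S₁)
    (hy' : y ∈ S') : ((α ⟨y, hy'⟩ : ↥S') : Ω) ∈ S₁ := by
  have h := hst α hα
  have h1 : ((α ⟨y, hy'⟩ : ↥S') : Ω) ∈ mapS (W := S') (W' := S') α S₁ :=
    mem_mapS_of_rel (W := S') (W' := S') α (rel_of_mem (W := S') (W' := S') α hy') hy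
  rw [← h.eq] at h1
  exact h1

theorem rsl_invariant_trans {S₀ S' S₁ : Subgroup Ω} [Finite S₀] (p : ℕ) [Fact p.Prime]
    (hS₀ : IsPGroup p S₀) (Fa : FusionSystem S₀) (hFa : Fa.IsSaturated p)
    (F' : FusionSystem S') (hF'inv : F'.IsInvariantIn Fa)
    (F₁ : FusionSystem S₁) (h₁ : F₁.IsInvariantIn F') (hst : rslStable Fa S' F₁) :
    F₁.IsInvariantIn Fa := by
  have hS₁S' : S₁ ≤ S' := h₁.2.1.1
  have hS'S₀ : S' ≤ S₀ := hF'inv.2.1.1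
  have hsub : F₁.IsSubsystemOf Fa := fun P φ hφ => hF'inv.1 P (h₁.1 P hφ)
  have hT : Fa.StronglyClosed S₁ := by
    refine ⟨hS₁S'.trans hS'S₀, fun R hR φ hφ x => ?_⟩
    obtain ⟨α, hα, φ₀, hφ₀, hv⟩ := hF'inv.2.2.2 R (hR.trans hS₁S') φ hφ
    have h2 : φ₀ x ∈ S₁ := h₁.2.1.2 R hR φ₀ hφ₀ x
    rw [hv x (hS₁S' h2)]
    exact rslStable_map_mem hst α hα h2 _
  refine invariant_of_SI p hS₀ Fa hFa F₁ hsub hT ?_
  have hSI' : SI F' F₁ := SI_of_invariant F' F₁ h₁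
  intro P Q hPQ hQ φ hφ hφQ ψ hψ
  have hQS' : Q ≤ S' := hQ.trans hS₁S'
  obtain ⟨α, hα, ψ₀, hψ₀, hv⟩ := hF'inv.2.2.2 Q hQS' ψ hψ
  have hψ₀S' : ∀ y : Q, ψ₀ y ∈ S' := (F'.le_of_mem hψ₀).2
  obtain ⟨χ₀, hχ₀, hχ₀v⟩ := hSI' P Q hPQ hQ φ hφ hφQ ψ₀ hψ₀
  have himg := hst α hα
  have hP' : (P.subgroupOf Q).map ψ =
      mapS (W := S') (W' := S') α ((P.subgroupOf Q).map ψ₀) := by
    ext z
    rw [mem_mapS]
    constructor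
    · rintro ⟨y, hy, rfl⟩
      refine ⟨ψ₀ y, ⟨y, hy, rfl⟩, hψ₀S' y, ?_⟩
      rw [hv y (hψ₀S' y)]
    · rintro ⟨w, ⟨y, hy, rfl⟩, hw, rfl⟩
      refine ⟨y, hy, ?_⟩
      rw [hv y hw]
  obtain ⟨χ, hχ, hind⟩ := himg.push hχ₀ hP'
  refine ⟨χ, hχ, fun x hx => ?_⟩
  have hx₀ : ψ₀ (Subgroup.inclusion hPQ x) ∈ (P.subgroupOf Q).map ψ₀ :=
    ⟨Subgroup.inclusion hPQ x, by
      rw [SetLike.mem_coe, Subgroup.mem_subgroupOf]; exact x.2, rfl⟩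
  have hrel : rel (W := S') (W' := S') α
      ((⟨ψ₀ (Subgroup.inclusion hPQ x), hx₀⟩ : ↥((P.subgroupOf Q).map ψ₀)) : Ω)
      ((⟨ψ (Subgroup.inclusion hPQ x), hx⟩ : ↥((P.subgroupOf Q).map ψ)) : Ω) := by
    refine ⟨hψ₀S' _, ?_⟩
    exact (hv _ (hψ₀S' _)).symm
  obtain ⟨h3, h4⟩ := hind.app hrel
  rw [← h4]
  have h5 := hχ₀v x hx₀
  rw [hv ⟨φ x, hφQ x⟩ (hψ₀S' _)]
  congr 2
  exact Subtype.ext h5
end Cfsg.Agent.RSL
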