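import Mathlib
import Cfsg.Prelude.Def_FusionReduction
import Cfsg.Agent.RSL.Basic
import Cfsg.Agent.RSL.Trans
import Cfsg.Agent.Lead.FusionPResidual
import Cfsg.Agent.Helper4.FusTrE
import Cfsg.Agent.Helper6.PPowNormD

set_option autoImplicit false

/-!
# S5202, part D: a saturated subsystem of `p`-power index of an invariant subsystem is invariant
-/

namespace Cfsg.Agent.RSL

open Cfsg Cfsg.FusionSystem Cfsg.Agent.Lead Cfsg.Agent.Lead.StrongInv Cfsg.Agent.Helper4.FusTr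

variable {Ω : Type*} [Group Ω]

/-- an `Fa`-automorphism of `S'` maps a strongly closed subgroup `S₁ ≤ S'` onto itself -/
theorem rsl_mapS_eq_of_stronglyClosed {S₀ S' S₁ : Subgroup Ω} (Fa : FusionSystem S₀)
    (hS'S₀ : S' ≤ S₀) (hS₁S' : S₁ ≤ S') (hS₁ : Fa.StronglyClosed S₁) (α : MulAut ↥S')
    (hα : α ∈ Fa.autGroup S') : mapS (W := S') (W' := S') α S₁ = S₁ := by
  have key : ∀ β : MulAut ↥S', β ∈ Fa.autGroup S' → mapS (W := S') (W' := S') β S₁ ≤ S₁ := by
    intro β hβ y hy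
    obtain ⟨x, hx, hx', rfl⟩ := (mem_mapS (W := S') (W' := S') β S₁ y).mp hy
    have hφ := (Fusion.mem_autGroup_iff Fa hS'S₀ β).mp hβ
    have h1 := hS₁.2 S₁ le_rfl _ (Fusion.restrict_mem Fa hφ hS₁S') ⟨x, hx⟩
    exact h1
  apply le_antisymm (key α hα)
  have h2 := key α⁻¹ (Subgroup.inv_mem _ hα)
  have h3 := mapS_mono (W := S') (W' := S') α h2
  have h4 : mapS (W := S') (W' := S') α (mapS (W := S') (W' := S') (α⁻¹ : MulAut ↥S') S₁) = S₁ :=
    mapS_mapS_symm (W := S') (W' := S') α hS₁S'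
  rw [h4] at h3
  exact h3

theorem rsl_ppower_stable {S₀ S' S₁ : Subgroup Ω} [Finite S₀] (p : ℕ) [Fact p.Prime]
    (hS₀ : IsPGroup p S₀) (Fa : FusionSystem S₀)
    (F' : FusionSystem S') (hF's : F'.IsSaturated p) (hF'inv : F'.IsInvariantIn Fa)
    (F₁ : FusionSystem S₁) (hF₁s : F₁.IsSaturated p) (hidx : F₁.HasPPowerIndexIn F' p)
    (hS₁ : Fa.StronglyClosed S₁) : rslStable Fa S' F₁ := by
  have hS'S₀ : S' ≤ S₀ := hF'inv.2.1.1
  have hS₁S' : S₁ ≤ S' := Fusion.le_of_isSubsystemOf F₁ F' hidx.1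
  have : Finite S' := Fusion.finite_of_le hS'S₀
  have : Finite S₁ := Fusion.finite_of_le (hS₁S'.trans hS'S₀)
  have hS' : IsPGroup p S' := hS₀.to_le hS'S₀
  have hS₁p : IsPGroup p S₁ := hS'.to_le hS₁S'
  intro α hα
  have hF' : Img (W := S') (W' := S') α F' F' := Img.of_invariant hF'inv α hα
  have h1 : Img (W := S') (W' := S') α F₁ (imgFS (W := S') (W' := S') α F₁ hS₁S') :=
    imgFS_img (W := S') (W' := S') α F₁ hS₁S'
  have hmap : mapS (W := S') (W' := S') α S₁ = S₁ :=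
    rsl_mapS_eq_of_stronglyClosed Fa hS'S₀ hS₁S' hS₁ α hα
  have hsat' := h1.isSaturated p hS₁p hF₁s
  have hidx' : (imgFS (W := S') (W' := S') α F₁ hS₁S').HasPPowerIndexIn F' p := by
    refine ⟨h1.isSubsystemOf hF' hidx.1, ?_, ?_⟩
    · rw [hF'.hyperfocal p hS' hF's]
      exact mapS_mono (W := S') (W' := S') α hidx.2.1
    · intro P' hP'
      rw [Subgroup.map_le_iff_le_comap]
      unfold pResidual
      rw [Subgroup.closure_le]
      rintro ⟨g, hg⟩ hgc
      show g ∈ (imgFS (W := S') (W' := S') α F₁ hS₁S').autGroup P'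
      have hgc' : (orderOf g).Coprime p := by
        have : orderOf (⟨g, hg⟩ : ↥(F'.autGroup P')) = orderOf g := Subgroup.orderOf_mk g hg
        rw [← this]
        exact hgc
      have hP'S' : P' ≤ S' := hP'.trans (mapS_le (W := S') (W' := S') α S₁)
      have hPS₁ : mapS (W := S') (W' := S') (α.symm) P' ≤ S₁ := h1.le_of_le hP'
      have hPS' := hPS₁.trans hS₁S'
      have hP'eq : P' = mapS (W := S') (W' := S') α (mapS (W := S') (W' := S') α.symm P') :=
        (mapS_mapS_symm (W := S') (W' := S') α hP'S').symm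
      have hrel := autRel_congr_symm (W := S') (W' := S') (e := α) hPS' hP'eq g
      have hγF' := (hF'.autGroup_iff hPS' hP'eq hrel).mpr hg
      have hord : orderOf (MulAut.congr (pe (W := S') (W' := S') α hPS' hP'eq).symm g) = orderOf g :=
        MulEquiv.orderOf_eq _ g
      have hγF₁ : MulAut.congr (pe (W := S') (W' := S') α hPS' hP'eq).symm g ∈
          F₁.autGroup (mapS (W := S') (W' := S') α.symm P') := by
        apply hidx.2.2 _ hPS₁
        refine ⟨⟨_, hγF'⟩, ?_, rfl⟩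
        apply mem_pResidual_of_coprime'
        rw [Subgroup.orderOf_mk, hord]
        exact hgc'
      exact (h1.autGroup_iff hPS₁ hP'eq hrel).mp hγF₁
  have hhom := Fusion.ppower_index_unique p hS' F' hmap
    (imgFS (W := S') (W' := S') α F₁ hS₁S') F₁ hsat' hF₁s hidx' hidx
  refine ⟨hS₁S', hmap.symm, fun {P P' φ φ'} hPT hi => ?_⟩
  rw [← hhom P']
  exact h1.iff' hPT hi

theorem rsl_ppower_isInvariantIn {S₀ S' S₁ : Subgroup Ω} [Finite S₀] (p : ℕ) [Fact p.Prime]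
    (hS₀ : IsPGroup p S₀) (Fa : FusionSystem S₀) (hFa : Fa.IsSaturated p)
    (F' : FusionSystem S') (hF's : F'.IsSaturated p) (hF'inv : F'.IsInvariantIn Fa)
    (F₁ : FusionSystem S₁) (hF₁s : F₁.IsSaturated p) (hidx : F₁.HasPPowerIndexIn F' p)
    (hS₁ : Fa.StronglyClosed S₁) : F₁.IsInvariantIn Fa := by
  have hS'S₀ : S' ≤ S₀ := hF'inv.2.1.1
  have : Finite S' := Fusion.finite_of_le hS'S₀
  have hS' : IsPGroup p S' := hS₀.to_le hS'S₀
  have hTn : ∀ s ∈ S', ∀ t ∈ S₁, s * t * s⁻¹ ∈ S₁ := by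
    intro s hs t ht
    exact hS₁.2 S₁ le_rfl _ (Fa.conj_mem hS₁.1 (hS'S₀ hs)) ⟨t, ht⟩
  have hn := Cfsg.Agent.Helper6.PPowNorm.isNormalIn_of_ppower p hS' F' hF's F₁ hF₁s hidx hTn
  exact rsl_invariant_trans p hS₀ Fa hFa F' hF'inv F₁ hn.1.2.2
    (rsl_ppower_stable p hS₀ Fa F' hF's hF'inv F₁ hF₁s hidx hS₁)

end Cfsg.Agent.RSL
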