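import Mathlib
import Cfsg.Prelude.Def_FusionReduction
import Cfsg.Agent.RSL.Basic
import Cfsg.Agent.RSL.PPowInv
import Cfsg.Agent.PPN.Local
import Cfsg.Agent.Lead.FusionFocal

set_option autoImplicit false

/-!
# S5202, piece I1: the diamond

`X` saturated over `S`, `Y` saturated, invariant and of index prime to `p` in `X`, `D = O^p(X)`
over the hyperfocal subgroup `S₁` of `X`, and `Y₁` saturated over `S₁` of `p`-power index in `Y`.
Then `Y₁` has index prime to `p` in `D`.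
-/

namespace Cfsg.Agent.RSL

open Cfsg Cfsg.FusionSystem Cfsg.Agent.Lead

variable {Ω : Type*} [Group Ω]

/-- `O^p` of a subgroup of automorphisms lies in `O^p` of a larger group of automorphisms. -/
theorem rsl_diamond_pResidual_mono {M : Type*} [Group M] (p : ℕ) {A B : Subgroup M} (hAB : A ≤ B)
    (β : A) (hβ : β ∈ Cfsg.pResidual p A) :
    (β : M) ∈ (Cfsg.pResidual p B).map B.subtype := by
  have h := pResidual_map_le p (Subgroup.inclusion hAB) ⟨β, hβ, rfl⟩
  exact ⟨Subgroup.inclusion hAB β, h, rfl⟩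

/-- the subsystem part of the diamond: `Y₁ ≤ O^p(X)` -/
theorem rsl_diamond_le {S : Subgroup Ω} [Finite S] (p : ℕ) [Fact p.Prime] (hS : IsPGroup p S)
    (X : FusionSystem S)
    (D : FusionSystem (X.hyperfocalSubgroup p)) (hD : X.IsPResidual p D)
    (Y₁ : FusionSystem (X.hyperfocalSubgroup p)) (hY₁s : Y₁.IsSaturated p)
    (hY₁X : Y₁.IsSubsystemOf X) : Y₁.IsSubsystemOf D := by
  have hS₁S : X.hyperfocalSubgroup p ≤ S := Fusion.hyperfocal_le X p
  have : Finite (X.hyperfocalSubgroup p) := Fusion.finite_of_le hS₁S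
  have hS₁ : IsPGroup p (X.hyperfocalSubgroup p) := hS.to_le hS₁S
  intro P φ hφ
  refine Fusion.pred_of_alperin p hS₁ Y₁ hY₁s (fun P φ => φ ∈ D.Hom P) ?_ ?_ ?_ ?_ hφ
  · intro P g hP hg
    exact D.conj_mem hP hg
  · intro P Q φ ψ h _ _ hφD hψD
    exact D.comp_mem hφD hψD h
  · intro P φ ψ _ hφD _ hψ
    obtain ⟨ψ', hψ', hinv⟩ := D.inv_mem hφD
    have e : ψ = ψ' := by
      ext ⟨y, x, rfl⟩
      rw [hψ x, hinv x]
    rw [e]; exact hψ'
  · intro P hP β hβ
    have hle : Y₁.autGroup P ≤ X.autGroup P := by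
      intro α hα
      rw [Fusion.mem_autGroup_iff X (hP.trans hS₁S)]
      exact hY₁X P ((Fusion.mem_autGroup_iff Y₁ hP α).mp hα)
    have h1 := rsl_diamond_pResidual_mono p hle β hβ
    have h2 := hD.2.2.2 P hP h1
    exact (Fusion.mem_autGroup_iff D hP _).mp h2

theorem rsl_diamond {S : Subgroup Ω} [Finite S] (p : ℕ) [Fact p.Prime] (hS : IsPGroup p S)
    (X : FusionSystem S) (hX : X.IsSaturated p) (Y : FusionSystem S) (hYs : Y.IsSaturated p)
    (hYinv : Y.IsInvariantIn X) (hYidx : Y.HasPrimeToPIndexIn X p)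
    (D : FusionSystem (X.hyperfocalSubgroup p)) (hD : X.IsPResidual p D)
    (Y₁ : FusionSystem (X.hyperfocalSubgroup p)) (hY₁s : Y₁.IsSaturated p)
    (hY₁ : Y₁.HasPPowerIndexIn Y p) : Y₁.HasPrimeToPIndexIn D p := by
  have hS₁S : X.hyperfocalSubgroup p ≤ S := Fusion.hyperfocal_le X p
  have hY₁inv : Y₁.IsInvariantIn X :=
    rsl_ppower_isInvariantIn p hS X hX Y hYs hYinv Y₁ hY₁s hY₁
      (Fusion.hyperfocal_stronglyClosed p hS X hX)
  refine ⟨rsl_diamond_le p hS X D hD Y₁ hY₁s hY₁inv.1, fun P hP => ?_⟩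
  rw [Subgroup.map_le_iff_le_comap, Subgroup.closure_le]
  rintro α ⟨k, hk⟩
  change ((D.autGroup P).subtype α) ∈ Y₁.autGroup P
  refine Cfsg.Agent.PPN.ppn_pElement_mem p hS X hS₁S D Y₁ hD.1 hD.2.1 hY₁inv hP
    (α : MulAut P) α.2 k ?_
  rw [Subgroup.orderOf_coe]; exact hk

end Cfsg.Agent.RSL
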