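import Mathlib
import Cfsg.Prelude.Def_FusionReduction
import Cfsg.Agent.RSL.Basic
import Cfsg.Agent.Lead.FusionStrongInvD
import Cfsg.Agent.Lead.SylowLemmas
import Cfsg.Agent.OLV.Gen
import Cfsg.Agent.OLV.ELe
import Cfsg.Agent.OLV.Contain
import Cfsg.Agent.OLV.Sat
import Cfsg.Agent.Helper6.PPowNormD
import Cfsg.Agent.PPN.Local

set_option autoImplicit false
set_option linter.unusedVariables false

/-!
# S5202, part F: `E` stays normal in the subsystems of the two steps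
-/

namespace Cfsg.Agent.RSL

open Cfsg Cfsg.FusionSystem Cfsg.Agent.Lead Cfsg.Agent.Lead.StrongInv Cfsg.Agent.OLV
  Cfsg.Agent.Helper6.PPowNorm

variable {Ω : Type*} [Group Ω]

/-- `E` invariant in `F'`, contained in the saturated subsystem `F₁` of `F'`: then `E` is invariant
in `F₁`. -/
theorem rsl_invariant_of_le {S' S₁ T : Subgroup Ω} [Finite S₁] (p : ℕ) [Fact p.Prime]
    (hS₁ : IsPGroup p S₁) (F' : FusionSystem S') (E : FusionSystem T) (hinv : E.IsInvariantIn F')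
    (F₁ : FusionSystem S₁) (hF₁s : F₁.IsSaturated p) (hF₁F' : F₁.IsSubsystemOf F')
    (hEF₁ : E.IsSubsystemOf F₁) (hTS₁ : T ≤ S₁) : E.IsInvariantIn F₁ := by
  have hSI : SI F' E := SI_of_invariant F' E hinv
  have hT : F₁.StronglyClosed T :=
    ⟨hTS₁, fun R hR φ hφ x => hinv.2.1.2 R hR φ (hF₁F' R hφ) x⟩
  refine invariant_of_SI p hS₁ F₁ hF₁s E hEF₁ hT ?_
  intro P Q hPQ hQT φ hφ hφQ ψ hψ
  exact hSI P Q hPQ hQT φ hφ hφQ ψ (hF₁F' Q hψ)

theorem rsl_isNormalIn_olvF0 {S' T : Subgroup Ω} [Finite S'] [Finite T] (p : ℕ) [Fact p.Prime]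
    (hS' : IsPGroup p S') (F' : FusionSystem S') (hF's : F'.IsSaturated p)
    (E : FusionSystem T) (hE : E.IsNormalIn F' p) {K : Subgroup (MulAut T)}
    (h : Cfsg.Agent.OLV.Setup F' E K) : E.IsNormalIn (Cfsg.Agent.OLV.olvF0 h) p := by
  have hTS' : T ≤ S' := h.le
  have hsat := olvF0_isSaturated p hS' hF's hE h
  have hEle := olvF0_contains p hS' hF's hE h
  refine ⟨⟨hE.1.1, hsat, rsl_invariant_of_le p hS' F' E h.inv (olvF0 h) hsat (olvF0_le h) hEle hTS'⟩,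
    fun α hα => ?_⟩
  obtain ⟨β, hβ, hβT, hβC⟩ := hE.2 α hα
  refine ⟨β, ?_, hβT, hβC⟩
  have hU'S' : T ⊔ centralizerIn S' T ≤ S' := sup_le hTS' inf_le_left
  have hU' : T ⊔ centralizerIn S' T ∈ olvH F' E := by
    refine ⟨olv_isCentric_sup_centralizerIn F' (olv_fullyCentralized_of_stronglyClosed F' h.sc), ?_⟩
    have : (T ⊔ centralizerIn S' T) ⊓ T = T := inf_eq_right.mpr le_sup_left
    rw [this]
    exact olv_isCentric_top E
  rw [Fusion.mem_autGroup_iff _ hU'S', olvF0_hom_eq h hU', mem_olvSys]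
  refine ⟨(Fusion.mem_autGroup_iff F' hU'S' β).mp hβ, le_olvT h _ ?_⟩
  have h1 := Fusion.restrict_mem E ((Fusion.mem_autGroup_iff E le_rfl α).mp hα)
    (inf_le_right : (T ⊔ centralizerIn S' T) ⊓ T ≤ T)
  convert h1 using 1
  ext x
  have hxT : (x : Ω) ∈ T := (Subgroup.mem_inf.mp x.2).2
  have := hβT ⟨x, hxT⟩
  exact this

theorem rsl_le_ppower {S' S₁ T : Subgroup Ω} [Finite S'] (p : ℕ) [Fact p.Prime]
    (hS' : IsPGroup p S') (F' : FusionSystem S') (hF's : F'.IsSaturated p)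
    (E : FusionSystem T) (hE : E.IsNormalIn F' p) (F₁ : FusionSystem S₁) (hF₁s : F₁.IsSaturated p)
    (hidx : F₁.HasPPowerIndexIn F' p) (hTS₁ : T ≤ S₁) : E.IsSubsystemOf F₁ := by
  have hTS' : T ≤ S' := hE.1.2.2.2.1.1
  have : Finite T := Fusion.finite_of_le hTS'
  have hT : IsPGroup p T := hS'.to_le hTS'
  have hEF' : E.IsSubsystemOf F' := hE.1.2.2.1
  intro P φ hφ
  refine Fusion.pred_of_alperin p hT E hE.1.1 (fun P φ => φ ∈ F₁.Hom P) ?_ ?_ ?_ ?_ hφ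
  · intro P g hP hg
    exact F₁.conj_mem (hP.trans hTS₁) (hTS₁ hg)
  · intro P Q φ ψ hh _ _ hφ hψ
    exact F₁.comp_mem hφ hψ hh
  · intro P φ ψ hφE hφ hψE hinv
    obtain ⟨ψ', hψ', hinv'⟩ := F₁.inv_mem hφ
    have : ψ = ψ' := by
      apply MonoidHom.ext
      rintro ⟨y, x, rfl⟩
      rw [hinv x, hinv' x]
    rw [this]
    exact hψ'
  · intro P hP β hβ
    have hPS₁ : P ≤ S₁ := hP.trans hTS₁
    rw [← Fusion.mem_autGroup_iff F₁ hPS₁]
    apply hidx.2.2 P hPS₁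
    have hle : E.autGroup P ≤ F'.autGroup P := autGroup_le_of_subsystem F' E hEF' P
    have h1 := pResidual_map_le p (Subgroup.inclusion hle)
    have h2 : Subgroup.inclusion hle β ∈ pResidual p (F'.autGroup P) :=
      h1 ⟨β, hβ, rfl⟩
    exact ⟨_, h2, rfl⟩


/-! ### The extension condition in the `p`-step -/

/-- `β` is a good extension of `α` to `T C`. -/
def rslExtPair (T C : Subgroup Ω) (α : MulAut T) (β : MulAut ↥(T ⊔ C)) : Prop :=
  (∀ x : T, ((β (Subgroup.inclusion le_sup_left x) : ↥(T ⊔ C)) : Ω) = ((α x : T) : Ω)) ∧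
    ∀ c : ↥(T ⊔ C), (c : Ω) ∈ C →
      (c : Ω)⁻¹ * ((β c : ↥(T ⊔ C)) : Ω) ∈ T ⊓ Subgroup.centralizer (T : Set Ω)

theorem rslExtPair_one (T C : Subgroup Ω) : rslExtPair T C 1 1 := by
  refine ⟨fun x => rfl, fun c _ => ?_⟩
  show (c : Ω)⁻¹ * (c : Ω) ∈ _
  rw [inv_mul_cancel]
  exact Subgroup.one_mem _

theorem rslExtPair_mul {T C : Subgroup Ω} (hZ : T ⊓ Subgroup.centralizer (T : Set Ω) ≤ C)
    {α₁ α₂ : MulAut T} {β₁ β₂ : MulAut ↥(T ⊔ C)} (h₁ : rslExtPair T C α₁ β₁)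
    (h₂ : rslExtPair T C α₂ β₂) : rslExtPair T C (α₁ * α₂) (β₁ * β₂) := by
  obtain ⟨hβ₁T, hβ₁C⟩ := h₁
  obtain ⟨hβ₂T, hβ₂C⟩ := h₂
  refine ⟨?_, ?_⟩
  · intro x
    show ((β₁ (β₂ (Subgroup.inclusion le_sup_left x)) : ↥(T ⊔ C)) : Ω) = ((α₁ (α₂ x) : T) : Ω)
    have h1 : β₂ (Subgroup.inclusion le_sup_left x) = Subgroup.inclusion le_sup_left (α₂ x) :=
      Subtype.ext (hβ₂T x)
    rw [h1, hβ₁T]
  · intro c hc
    have hz := hβ₂C c hc
    have hc2 : ((β₂ c : ↥(T ⊔ C)) : Ω) ∈ C := by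
      have h1 : ((β₂ c : ↥(T ⊔ C)) : Ω) = (c : Ω) * ((c : Ω)⁻¹ * ((β₂ c : ↥(T ⊔ C)) : Ω)) := by
        group
      rw [h1]
      exact Subgroup.mul_mem _ hc (hZ hz)
    have hz' := hβ₁C (β₂ c) hc2
    have h2 : (c : Ω)⁻¹ * (((β₁ * β₂) c : ↥(T ⊔ C)) : Ω) =
        ((c : Ω)⁻¹ * ((β₂ c : ↥(T ⊔ C)) : Ω)) *
        (((β₂ c : ↥(T ⊔ C)) : Ω)⁻¹ * ((β₁ (β₂ c) : ↥(T ⊔ C)) : Ω)) := by
      show (c : Ω)⁻¹ * ((β₁ (β₂ c) : ↥(T ⊔ C)) : Ω) = _
      group
    rw [h2]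
    exact Subgroup.mul_mem _ hz hz'

theorem rslExtPair_pow {T C : Subgroup Ω} (hZ : T ⊓ Subgroup.centralizer (T : Set Ω) ≤ C)
    {α : MulAut T} {β : MulAut ↥(T ⊔ C)} (h : rslExtPair T C α β) (n : ℕ) :
    rslExtPair T C (α ^ n) (β ^ n) := by
  induction n with
  | zero => rw [pow_zero, pow_zero]; exact rslExtPair_one T C
  | succ n ih => rw [pow_succ, pow_succ]; exact rslExtPair_mul hZ ih h

/-- a good pair over `C = C_{S₁}(T)` whose extension lies in `F₁` gives `ExtOK` -/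
theorem rsl_extOK_of_pair {S₁ T C : Subgroup Ω} (F₁ : FusionSystem S₁)
    (hC : centralizerIn S₁ T = C) {α : MulAut T} {β : MulAut ↥(T ⊔ C)}
    (hβ : β ∈ F₁.autGroup (T ⊔ C)) (h : rslExtPair T C α β) : ExtOK F₁ T α := by
  subst hC
  exact ⟨β, hβ, h.1, h.2⟩

/-- `Inn(T)` is normalized by every automorphism of `T` -/
theorem rsl_inn_conj_mem {T : Subgroup Ω} (m n : MulAut T) (hn : n ∈ autInducedBy T T) :
    m * n * m⁻¹ ∈ autInducedBy T T := by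
  obtain ⟨g, hg, hgv⟩ := (mem_autInducedBy_iff T T n).mp hn
  refine (mem_autInducedBy_iff T T _).mpr ⟨((m ⟨g, hg⟩ : T) : Ω), (m ⟨g, hg⟩).2, fun x => ?_⟩
  have h1 : n (m⁻¹ x) = ⟨g, hg⟩ * (m⁻¹ x) * (⟨g, hg⟩ : T)⁻¹ := Subtype.ext (hgv _)
  show ((m (n (m⁻¹ x)) : T) : Ω) = _
  rw [h1, map_mul, map_mul, map_inv]
  have h2 : m (m⁻¹ x) = x := by
    show (m * m⁻¹) x = x
    rw [mul_inv_cancel]
    rfl
  rw [h2]
  rfl

theorem rsl_isNormalIn_ppower {S' S₁ T : Subgroup Ω} [Finite S'] (p : ℕ) [Fact p.Prime]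
    (hS' : IsPGroup p S') (F' : FusionSystem S') (hF's : F'.IsSaturated p)
    (E : FusionSystem T) (hE : E.IsNormalIn F' p) (F₁ : FusionSystem S₁) (hF₁s : F₁.IsSaturated p)
    (hidx : F₁.HasPPowerIndexIn F' p) (hS₁ : F'.StronglyClosed S₁)
    (hU : T ⊔ centralizerIn S' T ≤ S₁) : E.IsNormalIn F₁ p := by
  have hTS' : T ≤ S' := hE.1.2.2.2.1.1
  have hTS₁ : T ≤ S₁ := le_sup_left.trans hU
  have hS₁S' : S₁ ≤ S' := hS₁.1
  have : Finite S₁ := Fusion.finite_of_le hS₁S'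
  have : Finite T := Fusion.finite_of_le hTS'
  have hS₁p : IsPGroup p S₁ := hS'.to_le hS₁S'
  have hEle := rsl_le_ppower p hS' F' hF's E hE F₁ hF₁s hidx hTS₁
  refine ⟨⟨hE.1.1, hF₁s, rsl_invariant_of_le p hS₁p F' E hE.1.2.2 F₁ hF₁s hidx.1 hEle hTS₁⟩,
    fun α hα => ?_⟩
  show ExtOK F₁ T α
  have hC : centralizerIn S₁ T = centralizerIn S' T := by
    unfold centralizerIn
    apply le_antisymm
    · exact inf_le_inf_right _ hS₁S'
    · intro c hc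
      exact Subgroup.mem_inf.mpr ⟨hU ((le_sup_right : centralizerIn S' T ≤ _) hc),
        (Subgroup.mem_inf.mp hc).2⟩
  have hZ : T ⊓ Subgroup.centralizer (T : Set Ω) ≤ centralizerIn S' T := by
    intro z hz
    exact Subgroup.mem_inf.mpr ⟨hTS' (Subgroup.mem_inf.mp hz).1, (Subgroup.mem_inf.mp hz).2⟩
  obtain ⟨β, hβ, hβT, hβC⟩ := hE.2 α hα
  have hpair : rslExtPair T (centralizerIn S' T) α β := ⟨hβT, hβC⟩
  have hU'S' : T ⊔ centralizerIn S' T ≤ S' := sup_le hTS' inf_le_left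
  have : Finite ↥(T ⊔ centralizerIn S' T) := Fusion.finite_of_le hU'S'
  -- split the order of `β`
  have hp : p.Prime := Fact.out
  have hpos : 0 < orderOf β := orderOf_pos β
  obtain ⟨a, m', hm', hn⟩ := Nat.exists_eq_pow_mul_and_not_dvd hpos.ne' p hp.ne_one
  have hcop : (p ^ a).Coprime m' :=
    Nat.Coprime.pow_left a ((Nat.Prime.coprime_iff_not_dvd hp).mpr hm')
  obtain ⟨k, hk0, hk1⟩ := Nat.chineseRemainder hcop 0 1
  obtain ⟨l, hl1, hl0⟩ := Nat.chineseRemainder hcop 1 0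
  -- `β ^ (l + k) = β`
  have hβpow : β ^ (l + k) = β := by
    have h1 : l + k ≡ 1 [MOD p ^ a * m'] := by
      rw [← Nat.modEq_and_modEq_iff_modEq_mul hcop]
      constructor
      · have := Nat.ModEq.add hl1 hk0
        simpa using this
      · have := Nat.ModEq.add hl0 hk1
        simpa using this
    have h2 : β ^ (l + k) = β ^ 1 := by
      rw [pow_eq_pow_iff_modEq, hn]
      exact h1
    rw [h2, pow_one]
  have hαpow : α ^ l * α ^ k = α := by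
    rw [← pow_add]
    have h1 := (rslExtPair_pow hZ hpair (l + k)).1
    rw [hβpow] at h1
    ext x
    rw [← h1 x, hβT x]
  -- the `p'`-part
  have hk : ExtOK F₁ T (α ^ k) := by
    refine rsl_extOK_of_pair F₁ hC (β := β ^ k) ?_ (rslExtPair_pow hZ hpair k)
    have hβk : β ^ k ∈ F'.autGroup (T ⊔ centralizerIn S' T) := Subgroup.pow_mem _ hβ k
    apply hidx.2.2 _ hU
    refine ⟨⟨β ^ k, hβk⟩, ?_, rfl⟩
    apply mem_pResidual_of_coprime'
    rw [Subgroup.orderOf_mk]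
    have hdvd : orderOf (β ^ k) ∣ m' := by
      apply orderOf_dvd_of_pow_eq_one
      rw [← pow_mul]
      apply orderOf_dvd_iff_pow_eq_one.mp
      rw [hn]
      obtain ⟨c, hc⟩ := (Nat.modEq_zero_iff_dvd.mp hk0)
      rw [hc]
      exact ⟨c, by ring⟩
    exact Nat.Coprime.coprime_dvd_left hdvd
      ((Nat.Prime.coprime_iff_not_dvd hp).mpr hm').symm
  -- the `p`-part
  have hl : ExtOK F₁ T (α ^ l) := by
    have hord : (α ^ l) ^ (p ^ a) = 1 := by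
      have h1 := (rslExtPair_pow hZ hpair (l * p ^ a)).1
      have h2 : β ^ (l * p ^ a) = 1 := by
        apply orderOf_dvd_iff_pow_eq_one.mp
        rw [hn]
        obtain ⟨c, hc⟩ := (Nat.modEq_zero_iff_dvd.mp hl0)
        rw [hc]
        exact ⟨c, by ring⟩
      rw [h2] at h1
      rw [← pow_mul]
      ext x
      rw [← h1 x]
      rfl
    obtain ⟨j, -, hj⟩ := (Nat.dvd_prime_pow hp).mp (orderOf_dvd_of_pow_eq_one hord)
    have hfa := Fusion.top_fullyAutomized p E hE.1.1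
    have hcard : Nat.card (autInducedBy T T) = p ^ (Nat.card (E.autGroup T)).factorization p :=
      (exists_sylow_eq_subgroupOf_iff (E.autGroup T) (autInducedBy T T)
        (Fusion.autInducedBy_le_autGroup E le_rfl)).mp hfa.2
    have hmem : α ^ l ∈ autInducedBy T T := by
      apply Cfsg.Agent.PPN.ppn_pElement_mem_of_normal (Fusion.autInducedBy_le_autGroup E le_rfl) hcard
        le_rfl (fun m _ n hn => rsl_inn_conj_mem m n hn) (Subgroup.pow_mem _ hα l) j hj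
    obtain ⟨g, hg, hgv⟩ := (mem_autInducedBy_iff T T _).mp hmem
    exact extOK_of_inner F₁ hTS₁ _ g hg hgv
  rw [← hαpow]
  exact extOK_mul F₁ hTS₁ hl hk


/-! ### Names of the lead's parallel version of this file (kept for compatibility) -/

theorem rsl_normalSub_invariant {S' S₁ T : Subgroup Ω} [Finite S₁] (p : ℕ) [Fact p.Prime]
    (hS₁ : IsPGroup p S₁) (F' : FusionSystem S') (E : FusionSystem T) (hinv : E.IsInvariantIn F')
    (F₁ : FusionSystem S₁) (hF₁s : F₁.IsSaturated p) (hF₁F' : F₁.IsSubsystemOf F')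
    (hEF₁ : E.IsSubsystemOf F₁) (hTS₁ : T ≤ S₁) : E.IsInvariantIn F₁ :=
  rsl_invariant_of_le p hS₁ F' E hinv F₁ hF₁s hF₁F' hEF₁ hTS₁

theorem rsl_extOK_of_eq {S₁ : Subgroup Ω} (F₁ : FusionSystem S₁) {T C : Subgroup Ω}
    (hC : centralizerIn S₁ T = C) (γ : MulAut T)
    (h : ∃ β ∈ F₁.autGroup (T ⊔ C),
      (∀ x : T, ((β (Subgroup.inclusion le_sup_left x) : ↥(T ⊔ C)) : Ω) = ((γ x : T) : Ω)) ∧
      ∀ c : ↥(T ⊔ C), (c : Ω) ∈ C →
        (c : Ω)⁻¹ * ((β c : ↥(T ⊔ C)) : Ω) ∈ T ⊓ Subgroup.centralizer (T : Set Ω)) :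
    ExtOK F₁ T γ := by
  subst hC
  exact h

end Cfsg.Agent.RSL
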