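import Mathlib
import Cfsg.Prelude.Def_FusionReduction
import Cfsg.Agent.RSL.Basic
import Cfsg.Agent.RSL.NormalSub

/-!
S5202, two closing lemmas (lead; `notes/S5202_helper9.md`, BASE and END):

* `rsl_isNormalIn_of_centralizer_le`: a weakly normal subsystem over `U` with `C_S(U) ≤ U` is normal (the extension
  condition is trivial: `U ⊔ C_S(U) = U`, take `β := α`).
* `rsl_base_eq`: if `E` is normal in `F'` over `S'` and `Aut_{F'}(T) = Aut_E(T)` then `S' = T C_{S'}(T)`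
  (`Aut_{S'}(T)` consists of `p`-elements of `Aut_E(T)`, and those are inner).
-/

set_option autoImplicit false

namespace Cfsg.Agent.RSL

open Cfsg Cfsg.FusionSystem Cfsg.Agent.Lead

variable {Ω : Type*} [Group Ω]

theorem rsl_isNormalIn_of_centralizer_le {S U : Subgroup Ω} [Finite S] (p : ℕ) [Fact p.Prime]
    (F : FusionSystem S) (F₀ : FusionSystem U) (hw : F₀.IsWeaklyNormalIn F p)
    (hc : centralizerIn S U ≤ U) : F₀.IsNormalIn F p := by
  refine ⟨hw, ?_⟩
  intro α hα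
  have hEF : F₀.IsSubsystemOf F := hw.2.2.1
  have heq : U ⊔ centralizerIn S U = U := sup_eq_left.mpr hc
  have h1 : U.subtype.comp α.toMonoidHom ∈ F.Hom U :=
    hEF U ((Fusion.mem_autGroup_iff F₀ le_rfl α).mp hα)
  obtain ⟨χ, hχ, hχv⟩ := Fusion.exists_hom_of_eq F heq.symm h1
  have hle : U ⊔ centralizerIn S U ≤ U := heq.le
  have hr : χ.range = U ⊔ centralizerIn S U := by
    ext z
    constructor
    · rintro ⟨x, rfl⟩
      rw [hχv x.1 (hle x.2) x.2]
      exact heq.ge (α ⟨x.1, hle x.2⟩).2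
    · intro hz
      have hzU : z ∈ U := hle hz
      refine ⟨⟨(α.symm ⟨z, hzU⟩ : U), heq.ge (α.symm ⟨z, hzU⟩).2⟩, ?_⟩
      rw [hχv _ (α.symm ⟨z, hzU⟩).2 _]
      show ((α (α.symm ⟨z, hzU⟩) : U) : Ω) = z
      simp
  obtain ⟨β, hβ, hβv⟩ := Fusion.exists_aut_of_range_eq F hχ hr
  refine ⟨β, hβ, ?_, ?_⟩
  · intro x
    rw [hβv]
    exact hχv x.1 x.2 _
  · intro c hc'
    have hcU : (c : Ω) ∈ U := hle c.2
    have hβc : ((β c : ↥(U ⊔ centralizerIn S U)) : Ω) = ((α ⟨c, hcU⟩ : U) : Ω) := by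
      rw [hβv]
      exact hχv c.1 hcU c.2
    rw [hβc]
    have hcC : (c : Ω) ∈ Subgroup.centralizer (U : Set Ω) := (Subgroup.mem_inf.mp hc').2
    refine Subgroup.mem_inf.mpr ⟨U.mul_mem (U.inv_mem hcU) (α ⟨c, hcU⟩).2, ?_⟩
    refine Subgroup.mul_mem _ (Subgroup.inv_mem _ hcC) ?_
    rw [Subgroup.mem_centralizer_iff]
    intro s hs
    have hcomm : (α.symm ⟨s, hs⟩ : U) * ⟨c, hcU⟩ = ⟨c, hcU⟩ * (α.symm ⟨s, hs⟩ : U) := by
      apply Subtype.ext
      exact (Subgroup.mem_centralizer_iff.mp hcC) _ (α.symm ⟨s, hs⟩).2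
    have h2 := congrArg (fun t : U => ((α t : U) : Ω)) hcomm
    simp only [map_mul, MulEquiv.apply_symm_apply, Subgroup.coe_mul] at h2
    exact h2

theorem rsl_base_eq {S' T : Subgroup Ω} [Finite S'] (p : ℕ) [Fact p.Prime] (hS' : IsPGroup p S')
    (F' : FusionSystem S') (E : FusionSystem T) (hE : E.IsNormalIn F' p)
    (hA : F'.autGroup T = E.autGroup T) : S' = T ⊔ centralizerIn S' T := by
  have hp : p.Prime := Fact.out
  have hsc : F'.StronglyClosed T := hE.1.2.2.2.1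
  have hTS' : T ≤ S' := hsc.1
  have : Finite T := Fusion.finite_of_le hTS'
  have : Finite (MulAut T) := inferInstance
  apply le_antisymm _ (sup_le hTS' inf_le_left)
  intro s hs
  have hconj : ∀ {g : Ω}, g ∈ S' → ∀ {x : Ω}, x ∈ T → g * x * g⁻¹ ∈ T := by
    intro g hg x hx
    have h := F'.conj_mem (P := T) (g := g) hTS' hg
    exact hsc.2 T le_rfl _ h ⟨x, hx⟩
  have hsN : s ∈ Subgroup.normalizer (T : Set Ω) := by
    rw [Subgroup.mem_normalizer_iff]
    intro x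
    constructor
    · exact fun hx => hconj hs hx
    · intro hx
      have h1 := hconj (S'.inv_mem hs) hx
      have e : s⁻¹ * (s * x * s⁻¹) * s⁻¹⁻¹ = x := by group
      rwa [e] at h1
  set a : MulAut T := conjAutHom T ⟨s, hsN⟩ with ha
  have haF : a ∈ F'.autGroup T :=
    Fusion.autInducedBy_le_autGroup F' hTS' (Fusion.conjAutHom_mem_autInducedBy T ⟨s, hsN⟩ hs)
  have haE : a ∈ E.autGroup T := hA ▸ haF
  -- `a` is a `p`-element
  obtain ⟨j, hj⟩ := hS' ⟨s, hs⟩
  have hsj : s ^ (p ^ j) = 1 := by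
    have := congrArg Subtype.val hj
    simpa using this
  have hdvd : orderOf a ∣ p ^ j := by
    apply orderOf_dvd_of_pow_eq_one
    rw [ha, ← map_pow]
    have : (⟨s, hsN⟩ : Subgroup.normalizer (T : Set Ω)) ^ (p ^ j) = 1 := Subtype.ext (by simpa using hsj)
    rw [this, map_one]
  obtain ⟨k, -, hk⟩ := (Nat.dvd_prime_pow hp).mp hdvd
  have hfa := Fusion.top_fullyAutomized p E hE.1.1
  have hcard : Nat.card (autInducedBy T T) = p ^ (Nat.card (E.autGroup T)).factorization p :=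
    (exists_sylow_eq_subgroupOf_iff (E.autGroup T) (autInducedBy T T)
      (Fusion.autInducedBy_le_autGroup E le_rfl)).mp hfa.2
  have hmem : a ∈ autInducedBy T T :=
    Cfsg.Agent.PPN.ppn_pElement_mem_of_normal (Fusion.autInducedBy_le_autGroup E le_rfl) hcard
      le_rfl (fun m _ n hn => rsl_inn_conj_mem m n hn) haE k hk
  obtain ⟨g, hg, hgv⟩ := (mem_autInducedBy_iff T T a).mp hmem
  have hcen : g⁻¹ * s ∈ centralizerIn S' T := by
    refine Subgroup.mem_inf.mpr ⟨S'.mul_mem (S'.inv_mem (hTS' hg)) hs, ?_⟩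
    rw [Subgroup.mem_centralizer_iff]
    intro x hx
    have h1 : s * x * s⁻¹ = g * x * g⁻¹ := hgv ⟨x, hx⟩
    have h2 : s * x = g * x * g⁻¹ * s := by rw [← h1]; group
    calc x * (g⁻¹ * s) = g⁻¹ * (g * x * g⁻¹ * s) := by group
      _ = g⁻¹ * (s * x) := by rw [h2]
      _ = g⁻¹ * s * x := by group
  have e : s = g * (g⁻¹ * s) := by group
  rw [e]
  exact Subgroup.mul_mem _ ((le_sup_left : T ≤ T ⊔ centralizerIn S' T) hg)
    ((le_sup_right : centralizerIn S' T ≤ T ⊔ centralizerIn S' T) hcen)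

end Cfsg.Agent.RSL
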