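import Mathlib
import Cfsg.Prelude.Def_Local
import Cfsg.Agent.RSL.Basic

set_option autoImplicit false

/-!
# S5202, part B: group theory

The subgroups `A O^{p'}(G)` and `A O^p(G)`, and the `p`-solvable step.
-/

namespace Cfsg.Agent.RSL

variable {Γ : Type*} [Group Γ]

theorem rslKq_le (p : ℕ) {A G : Subgroup Γ} (h : A ≤ G) : rslKq p A G ≤ G :=
  sup_le h ((Subgroup.closure_le G).mpr fun _ hg => hg.1)

theorem rslKp_le (p : ℕ) {A G : Subgroup Γ} (h : A ≤ G) : rslKp p A G ≤ G :=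
  sup_le h ((Subgroup.closure_le G).mpr fun _ hg => hg.1)

theorem le_rslKq (p : ℕ) (A G : Subgroup Γ) : A ≤ rslKq p A G := le_sup_left

theorem le_rslKp (p : ℕ) (A G : Subgroup Γ) : A ≤ rslKp p A G := le_sup_left

theorem rsl_pElement_mem (p : ℕ) (A : Subgroup Γ) {G : Subgroup Γ} {g : Γ} (hg : g ∈ G) (k : ℕ)
    (hk : orderOf g = p ^ k) : g ∈ rslKq p A G :=
  (le_sup_right : _ ≤ rslKq p A G) (Subgroup.subset_closure ⟨hg, k, hk⟩)

theorem rsl_coprime_mem (p : ℕ) (A : Subgroup Γ) {G : Subgroup Γ} {g : Γ} (hg : g ∈ G)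
    (hk : (orderOf g).Coprime p) : g ∈ rslKp p A G :=
  (le_sup_right : _ ≤ rslKp p A G) (Subgroup.subset_closure ⟨hg, hk⟩)

theorem rsl_orderOf_conj (b g : Γ) : orderOf (b * g * b⁻¹) = orderOf g := by
  have : b * g * b⁻¹ = MulAut.conj b g := by simp [MulAut.conj_apply]
  rw [this, MulEquiv.orderOf_eq]

/-- anything normalizing `A` and `G` normalizes `A O^{p'}(G)` -/
theorem rslKq_conj_mem (p : ℕ) {A G : Subgroup Γ} {b : Γ} (hbA : ∀ a ∈ A, b * a * b⁻¹ ∈ A)
    (hbG : ∀ g ∈ G, b * g * b⁻¹ ∈ G) {k : Γ} (hk : k ∈ rslKq p A G) :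
    b * k * b⁻¹ ∈ rslKq p A G := by
  have hle : rslKq p A G ≤ (rslKq p A G).comap (MulAut.conj b).toMonoidHom := by
    refine sup_le ?_ ((Subgroup.closure_le _).mpr ?_)
    · intro a ha
      rw [Subgroup.mem_comap]
      show MulAut.conj b a ∈ _
      rw [MulAut.conj_apply]
      exact le_rslKq p A G (hbA a ha)
    · rintro g ⟨hg, j, hj⟩
      rw [SetLike.mem_coe, Subgroup.mem_comap]
      show MulAut.conj b g ∈ _
      rw [MulAut.conj_apply]
      exact rsl_pElement_mem p A (hbG g hg) j (by rw [rsl_orderOf_conj, hj])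
  have := hle hk
  rw [Subgroup.mem_comap] at this
  simpa [MulAut.conj_apply] using this

theorem rslKp_conj_mem (p : ℕ) {A G : Subgroup Γ} {b : Γ} (hbA : ∀ a ∈ A, b * a * b⁻¹ ∈ A)
    (hbG : ∀ g ∈ G, b * g * b⁻¹ ∈ G) {k : Γ} (hk : k ∈ rslKp p A G) :
    b * k * b⁻¹ ∈ rslKp p A G := by
  have hle : rslKp p A G ≤ (rslKp p A G).comap (MulAut.conj b).toMonoidHom := by
    refine sup_le ?_ ((Subgroup.closure_le _).mpr ?_)
    · intro a ha
      rw [Subgroup.mem_comap]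
      show MulAut.conj b a ∈ _
      rw [MulAut.conj_apply]
      exact le_rslKp p A G (hbA a ha)
    · rintro g ⟨hg, hj⟩
      rw [SetLike.mem_coe, Subgroup.mem_comap]
      show MulAut.conj b g ∈ _
      rw [MulAut.conj_apply]
      exact rsl_coprime_mem p A (hbG g hg) (by rw [rsl_orderOf_conj]; exact hj)
  have := hle hk
  rw [Subgroup.mem_comap] at this
  simpa [MulAut.conj_apply] using this

/-- `G / A O^p(G)` is a `p`-group -/
theorem rsl_pow_mem_rslKp [Finite Γ] (p : ℕ) [hp : Fact p.Prime] (A : Subgroup Γ) {G : Subgroup Γ}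
    {g : Γ} (hg : g ∈ G) : ∃ n : ℕ, g ^ (p ^ n) ∈ rslKp p A G := by
  have hpos : orderOf g ≠ 0 := (orderOf_pos g).ne'
  obtain ⟨n, m, hm, hnm⟩ := Nat.exists_eq_pow_mul_and_not_dvd hpos p hp.out.ne_one
  refine ⟨n, rsl_coprime_mem p A (G.pow_mem hg _) ?_⟩
  have hdvd : p ^ n ∣ orderOf g := ⟨m, hnm⟩
  rw [orderOf_pow_of_dvd (pow_ne_zero _ hp.out.ne_zero) hdvd, hnm,
    Nat.mul_div_cancel_left _ (pow_pos hp.out.pos n)]
  exact (Nat.Coprime.symm ((Nat.Prime.coprime_iff_not_dvd hp.out).mpr hm))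

/-- an element with two coprime powers in a subgroup lies in it -/
theorem rsl_mem_of_coprime_pow (N : Subgroup Γ) (x : Γ) {a b : ℕ} (hab : a.Coprime b)
    (ha : x ^ a ∈ N) (hb : x ^ b ∈ N) : x ∈ N := by
  have h1 : (x ^ (a : ℤ)) ^ (Nat.gcdA a b) * (x ^ (b : ℤ)) ^ (Nat.gcdB a b) = x := by
    rw [← zpow_mul, ← zpow_mul, ← zpow_add, ← Nat.gcd_eq_gcd_ab, hab.gcd_eq_one]
    simp
  rw [← h1]
  refine N.mul_mem (N.zpow_mem ?_ _) (N.zpow_mem ?_ _)
  · simpa using ha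
  · simpa using hb

/-- the `p`-solvable step -/
theorem rsl_exists_step [Finite Γ] (p : ℕ) [Fact p.Prime] (A G : Subgroup Γ) (hAG : A ≤ G)
    [hn : (A.subgroupOf G).Normal] (hsolv : Cfsg.IsPSolvable p (↥G ⧸ A.subgroupOf G))
    (G' : Subgroup Γ) (hAG' : A ≤ G') (hG'G : G' ≤ G) (hne : G' ≠ A) :
    rslKq p A G' < G' ∨ rslKp p A G' < G' := by
  classical
  obtain ⟨n, H, h0, hlast, hmono, hnorm, hfac⟩ := hsolv
  set π := QuotientGroup.mk' (A.subgroupOf G) with hπ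
  -- the pulled back chain
  let M : Fin (n + 1) → Subgroup Γ := fun i => (((H i).comap π).map G.subtype) ⊓ G'
  have hM : ∀ i (g : Γ), g ∈ M i ↔ ∃ hg : g ∈ G, g ∈ G' ∧ π ⟨g, hg⟩ ∈ H i := by
    intro i g
    constructor
    · rintro ⟨⟨y, hy, rfl⟩, hg'⟩
      exact ⟨y.2, hg', hy⟩
    · rintro ⟨hg, hg', hx⟩
      exact ⟨⟨⟨g, hg⟩, hx, rfl⟩, hg'⟩
  have hM0 : M 0 = A := by
    ext g
    rw [hM]
    constructor
    · rintro ⟨hg, -, hx⟩
      rw [h0, Subgroup.mem_bot, hπ, QuotientGroup.mk'_apply, QuotientGroup.eq_one_iff,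
        Subgroup.mem_subgroupOf] at hx
      exact hx
    · intro hg
      refine ⟨hAG hg, hAG' hg, ?_⟩
      rw [h0, Subgroup.mem_bot, hπ, QuotientGroup.mk'_apply, QuotientGroup.eq_one_iff,
        Subgroup.mem_subgroupOf]
      exact hg
  have hMlast : M (Fin.last n) = G' := by
    ext g
    rw [hM]
    constructor
    · rintro ⟨-, hg', -⟩
      exact hg'
    · intro hg'
      exact ⟨hG'G hg', hg', by rw [hlast]; exact Subgroup.mem_top _⟩
  have hMle : ∀ i, M i ≤ G' := fun i => inf_le_right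
  have hAM : ∀ i, A ≤ M i := by
    intro i
    rw [← hM0]
    intro g hg
    obtain ⟨hgG, hg', hx⟩ := (hM 0 g).mp hg
    exact (hM i g).mpr ⟨hgG, hg', hmono (Fin.zero_le i) hx⟩
  -- the first index where the chain reaches `G'`
  have hex : ∃ k : ℕ, ∃ hk : k < n + 1, M ⟨k, hk⟩ = G' := ⟨n, Nat.lt_succ_self n, hMlast⟩
  set k₀ := Nat.find hex with hk₀
  obtain ⟨hk₀lt, hk₀M⟩ := Nat.find_spec hex
  have hk₀pos : k₀ ≠ 0 := by
    intro h
    apply hne
    have h1 : M ⟨k₀, hk₀lt⟩ = M 0 := by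
      congr 1
      exact Fin.ext h
    rw [← hk₀M, h1, hM0]
  obtain ⟨j, hj⟩ := Nat.exists_eq_succ_of_ne_zero hk₀pos
  have hjn : j < n := by omega
  have hjM : M (⟨j, hjn⟩ : Fin n).castSucc ≠ G' := by
    intro h
    have : k₀ ≤ j := Nat.find_min' hex ⟨by omega, h⟩
    omega
  have hjM' : M (⟨j, hjn⟩ : Fin n).succ = G' := by
    have : (⟨j, hjn⟩ : Fin n).succ = ⟨k₀, hk₀lt⟩ := Fin.ext (by simp [hj])
    rw [this]
    exact hk₀M
  set i : Fin n := ⟨j, hjn⟩ with hi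
  have hlt : M i.castSucc < G' := lt_of_le_of_ne (hMle _) hjM
  have := hnorm i.castSucc
  -- the power lemma in the section
  have hpow : ∀ x ∈ H i.succ, x ^ ((H i.castSucc).relIndex (H i.succ)) ∈ H i.castSucc := by
    intro x hx
    have : ((H i.castSucc).subgroupOf (H i.succ)).Normal := inferInstance
    have := Subgroup.pow_index_mem ((H i.castSucc).subgroupOf (H i.succ)) (⟨x, hx⟩ : ↥(H i.succ))
    rw [Subgroup.mem_subgroupOf] at this
    exact this
  have hord : ∀ (g : Γ) (hg : g ∈ G), orderOf (π ⟨g, hg⟩) ∣ orderOf g := by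
    intro g hg
    have h1 := orderOf_map_dvd π (⟨g, hg⟩ : ↥G)
    rwa [Subgroup.orderOf_mk] at h1
  rcases hfac i with ⟨m, hm⟩ | hcop
  · -- the section is a `p`-group: the `p'`-elements of `G'` lie in `M i`
    right
    refine lt_of_le_of_lt ?_ hlt
    refine sup_le (hAM _) ((Subgroup.closure_le _).mpr ?_)
    rintro g ⟨hg', hgc⟩
    have hgG := hG'G hg'
    have hx : π ⟨g, hgG⟩ ∈ H i.succ := by
      have : g ∈ M i.succ := by rw [hjM']; exact hg'
      obtain ⟨_, _, h3⟩ := (hM _ g).mp this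
      exact h3
    refine (hM _ g).mpr ⟨hgG, hg', ?_⟩
    refine rsl_mem_of_coprime_pow _ _ (a := p ^ m) (b := orderOf (π ⟨g, hgG⟩)) ?_ ?_ ?_
    · exact Nat.Coprime.pow_left m
        ((Nat.Coprime.coprime_dvd_left (hord g hgG) hgc).symm)
    · rw [← hm]
      exact hpow _ hx
    · rw [pow_orderOf_eq_one]
      exact Subgroup.one_mem _
  · -- the section is a `p'`-group: the `p`-elements of `G'` lie in `M i`
    left
    refine lt_of_le_of_lt ?_ hlt
    refine sup_le (hAM _) ((Subgroup.closure_le _).mpr ?_)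
    rintro g ⟨hg', k, hgk⟩
    have hgG := hG'G hg'
    have hx : π ⟨g, hgG⟩ ∈ H i.succ := by
      have : g ∈ M i.succ := by rw [hjM']; exact hg'
      obtain ⟨_, _, h3⟩ := (hM _ g).mp this
      exact h3
    refine (hM _ g).mpr ⟨hgG, hg', ?_⟩
    refine rsl_mem_of_coprime_pow _ _ (a := (H i.castSucc).relIndex (H i.succ))
      (b := p ^ k) ?_ (hpow _ hx) ?_
    · exact Nat.Coprime.pow_right k hcop
    · have h1 := hord g hgG
      rw [hgk] at h1
      obtain ⟨c, hc⟩ := h1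
      rw [hc, pow_mul, pow_orderOf_eq_one, one_pow]
      exact Subgroup.one_mem _

end Cfsg.Agent.RSL
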