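import Mathlib
import Cfsg.Prelude.Def_FusionReduction
import Cfsg.Agent.RSL.Basic
import Cfsg.Agent.Lead.FusionStrongInvD
import Cfsg.Agent.Lead.FusionExt
import Cfsg.Agent.Lead.FusionStab
import Cfsg.Agent.HFP.FusPres
import Cfsg.Agent.WNE.ExtA
import Cfsg.Agent.S5097

set_option autoImplicit false

/-!
# S5201, part 1: the hyperfocal subgroup of the system `F₀` of S5202 lies in `T`

`F₀` is a saturated subsystem of `F` over `U = T C_S(T)`, `E` is normal in `F₀`,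
`Aut_{F₀}(T) = Aut_E(T)`, and the focal subgroup of `C_F(T)` lies in `T`.  Then `hyp(F₀) ≤ T`.
-/

namespace Cfsg.Agent.RSL

open Cfsg Cfsg.FusionSystem Cfsg.Agent.Lead Cfsg.Agent.Lead.StrongInv Cfsg.Agent.HFP

variable {Ω : Type*} [Group Ω]

/-- every map of `F₀` whose source contains `T` moves the elements inside their cosets of `T` -/
theorem rsl_hyp_map_mem {S U T : Subgroup Ω} [Finite S] (p : ℕ)
    (F : FusionSystem S) (hTscF : F.StronglyClosed T) (E : FusionSystem T)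
    (hfoc : ∀ D : FusionSystem (centralizerIn S T), F.IsCentralizerSystem T D →
      D.focalSubgroup ≤ T)
    (F₀ : FusionSystem U) (hU : U = T ⊔ centralizerIn S T)
    (hF₀F : F₀.IsSubsystemOf F) (hE₀ : E.IsNormalIn F₀ p) (hAut : F₀.autGroup T = E.autGroup T)
    {P : Subgroup Ω} {φ : ↥P →* Ω} (hφ : φ ∈ F₀.Hom P) (hTP : T ≤ P) (x : ↥P) :
    (x : Ω)⁻¹ * φ x ∈ T := by
  subst hU
  have hTS : T ≤ S := hTscF.1
  have hTU : T ≤ T ⊔ centralizerIn S T := le_sup_left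
  have hUS : T ⊔ centralizerIn S T ≤ S := sup_le hTS inf_le_left
  have hPU : P ≤ T ⊔ centralizerIn S T := (F₀.le_of_mem hφ).1
  have hφU : ∀ y : ↥P, φ y ∈ T ⊔ centralizerIn S T := (F₀.le_of_mem hφ).2
  have hTsc : F₀.StronglyClosed T := hE₀.1.2.2.2.1
  have hfinU : Finite ↥(T ⊔ centralizerIn S T) := Fusion.finite_of_le hUS
  obtain ⟨D, hD⟩ := Cfsg.Agent.S5097.result F T hTS
  have hfocD := hfoc D hD
  -- the automorphism of `T` induced by `φ`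
  have hφT := Fusion.restrict_mem F₀ hφ hTP
  have hrT : (φ.comp (Subgroup.inclusion hTP)).range = T :=
    (Fusion.weaklyClosed_of_stronglyClosed F₀ hTsc).2 _ hφT
  obtain ⟨α, hα, hαv⟩ := Fusion.exists_aut_of_range_eq F₀ hφT hrT
  have hαE : α ∈ E.autGroup T := hAut ▸ hα
  obtain ⟨β, hβ, hβT, hβC⟩ := hE₀.2 α hαE
  -- the overgroup `V = T C_U(T)` (equal to `U`)
  have hcle : centralizerIn S T ≤ centralizerIn (T ⊔ centralizerIn S T) T := by
    intro c hc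
    exact Subgroup.mem_inf.mpr ⟨(le_sup_right : centralizerIn S T ≤ _) hc, (Subgroup.mem_inf.mp hc).2⟩
  have hUV : T ⊔ centralizerIn S T ≤ T ⊔ centralizerIn (T ⊔ centralizerIn S T) T :=
    sup_le le_sup_left (hcle.trans le_sup_right)
  have hVU : T ⊔ centralizerIn (T ⊔ centralizerIn S T) T ≤ T ⊔ centralizerIn S T :=
    sup_le hTU inf_le_left
  have hβinv : (T ⊔ centralizerIn (T ⊔ centralizerIn S T) T).subtype.comp (β⁻¹).toMonoidHom ∈
      F₀.Hom (T ⊔ centralizerIn (T ⊔ centralizerIn S T) T) :=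
    (Fusion.mem_autGroup_iff F₀ hVU _).mp (Subgroup.inv_mem _ hβ)
  have hφV : ∀ y : ↥P, φ y ∈ T ⊔ centralizerIn (T ⊔ centralizerIn S T) T := fun y => hUV (hφU y)
  have hψ := F₀.comp_mem hφ hβinv hφV
  set ψ : ↥P →* Ω := ((T ⊔ centralizerIn (T ⊔ centralizerIn S T) T).subtype.comp
    (β⁻¹).toMonoidHom).comp (φ.codRestrict _ hφV) with hψdef
  have hψv : ∀ y : ↥P, ψ y = ((β⁻¹ ⟨φ y, hφV y⟩ : ↥(T ⊔ centralizerIn (T ⊔ centralizerIn S T) T)) : Ω) :=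
    fun y => rfl
  have hβψ : ∀ y : ↥P, ((β ⟨ψ y, by rw [hψv]; exact (β⁻¹ ⟨φ y, hφV y⟩).2⟩ :
      ↥(T ⊔ centralizerIn (T ⊔ centralizerIn S T) T)) : Ω) = φ y := by
    intro y
    have : (⟨ψ y, by rw [hψv]; exact (β⁻¹ ⟨φ y, hφV y⟩).2⟩ :
        ↥(T ⊔ centralizerIn (T ⊔ centralizerIn S T) T)) = β⁻¹ ⟨φ y, hφV y⟩ := Subtype.ext (hψv y)
    rw [this]
    show (((β * β⁻¹) ⟨φ y, hφV y⟩ : ↥(T ⊔ centralizerIn (T ⊔ centralizerIn S T) T)) : Ω) = φ y
    rw [mul_inv_cancel]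
    rfl
  -- `ψ` is the identity on `T`
  have hψT : ∀ t : ↥T, ψ (Subgroup.inclusion hTP t) = (t : Ω) := by
    intro t
    rw [hψv]
    have h1 : (⟨φ (Subgroup.inclusion hTP t), hφV _⟩ :
        ↥(T ⊔ centralizerIn (T ⊔ centralizerIn S T) T)) = β (Subgroup.inclusion le_sup_left t) := by
      apply Subtype.ext
      rw [hβT]
      exact (hαv t).symm
    rw [h1]
    show (((β⁻¹ * β) (Subgroup.inclusion le_sup_left t) :
      ↥(T ⊔ centralizerIn (T ⊔ centralizerIn S T) T)) : Ω) = _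
    rw [inv_mul_cancel]
    rfl
  -- `ψ` maps `C_P(T)` into `C_S(T)`
  have hψC : ∀ y : ↥P, (y : Ω) ∈ centralizerIn S T → ψ y ∈ centralizerIn S T := by
    intro y hy
    refine Subgroup.mem_inf.mpr ⟨hUS ((F₀.le_of_mem hψ).2 y), ?_⟩
    rw [Subgroup.mem_centralizer_iff]
    intro t ht
    have hcomm : (⟨t, hTP ht⟩ : ↥P) * y = y * ⟨t, hTP ht⟩ :=
      Subtype.ext ((Subgroup.mem_centralizer_iff.mp (Subgroup.mem_inf.mp hy).2) t ht)
    have h1 := hψT ⟨t, ht⟩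
    have h2 : (Subgroup.inclusion hTP ⟨t, ht⟩ : ↥P) = ⟨t, hTP ht⟩ := rfl
    rw [h2] at h1
    calc t * ψ y = ψ ⟨t, hTP ht⟩ * ψ y := by rw [h1]
      _ = ψ (⟨t, hTP ht⟩ * y) := (map_mul ψ _ _).symm
      _ = ψ (y * ⟨t, hTP ht⟩) := by rw [hcomm]
      _ = ψ y * ψ ⟨t, hTP ht⟩ := map_mul ψ _ _
      _ = ψ y * t := by rw [h1]
  -- the elements of `C_P(T)`
  have hkey : ∀ c : ↥P, (c : Ω) ∈ centralizerIn S T → (c : Ω)⁻¹ * φ c ∈ T := by
    intro c hc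
    -- the restriction of `ψ` to `C_P(T)` is a map of `C_F(T)`
    have hle : P ⊓ centralizerIn S T ⊔ T ≤ P := sup_le inf_le_left hTP
    have hψcD : ψ.comp (Subgroup.inclusion (inf_le_left : P ⊓ centralizerIn S T ≤ P)) ∈
        D.Hom (P ⊓ centralizerIn S T) := by
      rw [hD]
      refine ⟨hF₀F _ (Fusion.restrict_mem F₀ hψ inf_le_left), inf_le_right, ?_, ?_⟩
      · intro y
        exact hψC _ (Subgroup.mem_inf.mp y.2).2
      · refine ⟨ψ.comp (Subgroup.inclusion hle), hF₀F _ (Fusion.restrict_mem F₀ hψ hle),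
          fun y => rfl, fun t => ?_⟩
        exact hψT t
    have h1 : (c : Ω)⁻¹ * ψ c ∈ D.focalSubgroup := by
      apply Subgroup.subset_closure
      exact ⟨P ⊓ centralizerIn S T, _, ⟨c, Subgroup.mem_inf.mpr ⟨c.2, hc⟩⟩, hψcD, rfl⟩
    have h2 : (c : Ω)⁻¹ * ψ c ∈ T := hfocD h1
    have hψcV : ψ c ∈ T ⊔ centralizerIn (T ⊔ centralizerIn S T) T := by
      rw [hψv]; exact (β⁻¹ ⟨φ c, hφV c⟩).2
    have hψcC : ψ c ∈ centralizerIn (T ⊔ centralizerIn S T) T :=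
      hcle (hψC c hc)
    have h3 := hβC ⟨ψ c, hψcV⟩ hψcC
    rw [hβψ c] at h3
    have h4 : (c : Ω)⁻¹ * φ c = ((c : Ω)⁻¹ * ψ c) * ((ψ c)⁻¹ * φ c) := by group
    rw [h4]
    exact T.mul_mem h2 (Subgroup.mem_inf.mp h3).1
  -- the general element
  obtain ⟨t, ht, c, hc, hxtc⟩ := Cfsg.Agent.WNE.wne_mem_sup_centralizer F hTscF hTS (hPU x.2)
  have hcP : c ∈ P := by
    have : c = t⁻¹ * (x : Ω) := by rw [hxtc]; group
    rw [this]
    exact P.mul_mem (P.inv_mem (hTP ht)) x.2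
  have hx : x = (⟨t, hTP ht⟩ : ↥P) * ⟨c, hcP⟩ := Subtype.ext hxtc
  have hφt : φ ⟨t, hTP ht⟩ ∈ T := hTsc.2 T le_rfl _ hφT ⟨t, ht⟩
  have hz : t⁻¹ * φ ⟨t, hTP ht⟩ ∈ T := T.mul_mem (T.inv_mem ht) hφt
  have hcz : c⁻¹ * (t⁻¹ * φ ⟨t, hTP ht⟩) * c = t⁻¹ * φ ⟨t, hTP ht⟩ := by
    have := (Subgroup.mem_centralizer_iff.mp (Subgroup.mem_inf.mp hc).2) _ hz
    rw [mul_assoc, this]
    group
  have h5 := hkey ⟨c, hcP⟩ hc
  have h6 : (x : Ω)⁻¹ * φ x =
      (c⁻¹ * (t⁻¹ * φ ⟨t, hTP ht⟩) * c) * (c⁻¹ * φ ⟨c, hcP⟩) := by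
    rw [hx, map_mul]
    show (t * c)⁻¹ * _ = _
    group
  rw [h6, hcz]
  exact T.mul_mem hz h5

/-- the hyperfocal subgroup of `F₀` lies in `T` -/
theorem rsl_hyperfocal_le {S U T : Subgroup Ω} [Finite S] (p : ℕ) [Fact p.Prime] (hS : IsPGroup p S)
    (F : FusionSystem S) (hTscF : F.StronglyClosed T) (E : FusionSystem T)
    (hfoc : ∀ D : FusionSystem (centralizerIn S T), F.IsCentralizerSystem T D →
      D.focalSubgroup ≤ T)
    (F₀ : FusionSystem U) (hU : U = T ⊔ centralizerIn S T) (hF₀s : F₀.IsSaturated p)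
    (hF₀F : F₀.IsSubsystemOf F) (hE₀ : E.IsNormalIn F₀ p) (hAut : F₀.autGroup T = E.autGroup T) :
    F₀.hyperfocalSubgroup p ≤ T := by
  have hTS : T ≤ S := hTscF.1
  have hTU : T ≤ U := by rw [hU]; exact le_sup_left
  have hUS : U ≤ S := by rw [hU]; exact sup_le hTS inf_le_left
  have hfinU : Finite ↥U := Fusion.finite_of_le hUS
  have hUp : IsPGroup p ↥U := hS.to_le hUS
  have hTsc : F₀.StronglyClosed T := hE₀.1.2.2.2.1
  have hn : (T.subgroupOf U).Normal :=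
    (Subgroup.normal_subgroupOf_iff_le_normalizer hTU).mpr
      (Fusion.le_normalizer_of_stronglyClosed F₀ hTsc)
  have h1 := hfp_hyperfocal_le_ker p hUp F₀ hF₀s hTsc (hUp.to_quotient (T.subgroupOf U))
    (QuotientGroup.mk' (T.subgroupOf U)) ?_ ?_
  · refine h1.trans ?_
    rw [QuotientGroup.ker_mk', Subgroup.subgroupOf_map_subtype]
    exact inf_le_left
  · intro t ht
    rw [QuotientGroup.mk'_apply, QuotientGroup.eq_one_iff, Subgroup.mem_subgroupOf]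
    exact ht
  · intro P φ hφ hTP
    refine ⟨1, fun x hx hφx => ?_⟩
    rw [one_mul, inv_one, mul_one, QuotientGroup.mk'_apply, QuotientGroup.mk'_apply, eq_comm,
      QuotientGroup.eq, Subgroup.mem_subgroupOf]
    exact rsl_hyp_map_mem p F hTscF E hfoc F₀ hU hF₀F hE₀ hAut hφ hTP x

end Cfsg.Agent.RSL
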