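import Mathlib
import Cfsg.Prelude.Def_FusionReduction
import Cfsg.Agent.RSL.Basic
import Cfsg.Agent.Helper2.PPrimeResC
import Cfsg.Agent.WNE.ResInv

set_option autoImplicit false

/-!
# S5202, piece I0: `O^{p'}(F)` is invariant in `F`
-/

namespace Cfsg.Agent.RSL

open Cfsg Cfsg.FusionSystem Cfsg.Agent.Lead Cfsg.Agent.Lead.StrongInv Cfsg.Agent.Lead.PrimeIdx
open Cfsg.Agent.Helper2.PPrimeRes

variable {Ω : Type*} [Group Ω]

/-- A fusion system is strongly invariant in itself. -/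
theorem rsl_resinv_SI_self {S : Subgroup Ω} (F : FusionSystem S) : SI F F := by
  intro P Q hPQ hQS φ hφ hφQ ψ hψ
  have hψP := Fusion.restrict_mem F hψ hPQ
  have hr : (ψ.comp (Subgroup.inclusion hPQ)).range = (P.subgroupOf Q).map ψ := by
    ext z
    constructor
    · rintro ⟨x, rfl⟩
      exact ⟨Subgroup.inclusion hPQ x, Subgroup.mem_subgroupOf.mpr x.2, rfl⟩
    · rintro ⟨y, hy, rfl⟩
      exact ⟨⟨y.1, Subgroup.mem_subgroupOf.mp hy⟩, rfl⟩
  obtain ⟨ι, hι, hinv, hrι⟩ := Fusion.exists_inv F hψP hr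
  have hιP : ∀ y, ι y ∈ P := fun y => hrι.le ⟨y, rfl⟩
  have h1 := F.comp_mem hι hφ hιP
  have h2 := F.comp_mem h1 hψ (fun y => hφQ _)
  refine ⟨_, h2, fun x hx => ?_⟩
  have e1 : ι ⟨ψ (Subgroup.inclusion hPQ x), hx⟩ = (x : Ω) := hinv x hx
  have e2 : (ι.codRestrict P hιP) ⟨ψ (Subgroup.inclusion hPQ x), hx⟩ = x := Subtype.ext e1
  show ψ ⟨φ ((ι.codRestrict P hιP) ⟨ψ (Subgroup.inclusion hPQ x), hx⟩), _⟩ = ψ ⟨φ x, hφQ x⟩
  exact app_congr ψ _ _ (by rw [e2])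

/-- A saturated fusion system is invariant in itself. -/
theorem rsl_resinv_isInvariantIn_self {S : Subgroup Ω} [Finite S] (p : ℕ) [Fact p.Prime]
    (hS : IsPGroup p S) (F : FusionSystem S) (hF : F.IsSaturated p) : F.IsInvariantIn F :=
  invariant_of_SI p hS F hF F (fun _ _ h => h) (stronglyClosed_top F) (rsl_resinv_SI_self F)

/-- I0: `O^{p'}(F)` is invariant in `F`. -/
theorem rsl_pPrimeResidual_isInvariantIn {S : Subgroup Ω} [Finite S] (p : ℕ) [Fact p.Prime]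
    (hS : IsPGroup p S) (F : FusionSystem S) (hF : F.IsSaturated p) (D : FusionSystem S)
    (hD : F.IsPPrimeResidual p D) : D.IsInvariantIn F := by
  have hw : F.IsWeaklyNormalIn F p := ⟨hF, hF, rsl_resinv_isInvariantIn_self p hS F hF⟩
  obtain ⟨ha, hb, hc, hd⟩ := Cfsg.Agent.WNE.wne_resSys_isInvariantIn p hS F hF F hw
  have h1 : D.IsSubsystemOf (resSys p F) :=
    hD.2.2 _ (resSys_isSaturated p hS F hF) (resSys_main p hS F hF).1
  have h2 : (resSys p F).IsSubsystemOf D := resSys_le_of_saturated p hS F hF D hD.1 hD.2.1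
  refine ⟨fun P φ h => ha P (h1 P h), hb, ?_, ?_⟩
  · intro P hPT φ hφ α hα
    obtain ⟨χ, hχ, hv⟩ := hc P hPT φ (h1 P hφ) α hα
    exact ⟨χ, h2 _ hχ, hv⟩
  · intro P hPT φ hφ
    obtain ⟨α, hα, φ₀, hφ₀, hv⟩ := hd P hPT φ hφ
    exact ⟨α, hα, φ₀, h2 P hφ₀, hv⟩

end Cfsg.Agent.RSL
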