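import Mathlib
import Cfsg.Prelude.Def_FusionReduction
import Cfsg.Agent.RSL.Basic
import Cfsg.Agent.RSL.ResInv
import Cfsg.Agent.RSL.Diamond
import Cfsg.Agent.Helper6.ResLimB
import Cfsg.Agent.Helper6.PpiH
import Cfsg.Agent.Helper2.PPrimeResC
import Cfsg.Agent.Lead.HyperfocalGroup

set_option autoImplicit false

/-!
# S5202, piece I2 (helper8): residual limits

Existence of residual limits, a residual limit is a subsystem, and: a saturated system `X`, its
`p'`-residual subsystem, and every saturated subsystem of index prime to `p` have the same residual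
limit.
-/

namespace Cfsg.Agent.RSL

open Cfsg Cfsg.FusionSystem Cfsg.Agent.Lead
open Cfsg.Agent.Helper6.ResLim

variable {Ω : Type*} [Group Ω]

/-- Index prime to `p` is transitive. -/
theorem rsl_reslim_primeIdx_trans {S : Subgroup Ω} (p : ℕ) (X Y Z : FusionSystem S)
    (hYX : Y.HasPrimeToPIndexIn X p) (hZY : Z.HasPrimeToPIndexIn Y p) :
    Z.HasPrimeToPIndexIn X p := by
  refine ⟨fun P => (hZY.1 P).trans (hYX.1 P), fun P hP => ?_⟩
  rw [Subgroup.map_le_iff_le_comap, Subgroup.closure_le]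
  rintro α ⟨k, hk⟩
  rw [SetLike.mem_coe, Subgroup.mem_comap]
  have hαY : (α : MulAut P) ∈ Y.autGroup P :=
    hYX.2 P hP ⟨α, Subgroup.subset_closure ⟨k, hk⟩, rfl⟩
  apply hZY.2 P hP
  refine ⟨⟨(α : MulAut P), hαY⟩, Subgroup.subset_closure ⟨k, ?_⟩, rfl⟩
  rw [← hk, Subgroup.orderOf_mk, Subgroup.orderOf_coe]

/-- A system has index prime to `p` in itself. -/
theorem rsl_reslim_primeIdx_self {S : Subgroup Ω} (p : ℕ) (X : FusionSystem S) :
    X.HasPrimeToPIndexIn X p := by
  refine ⟨fun P => subset_rfl, fun P _ => ?_⟩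
  rintro _ ⟨α, -, rfl⟩
  exact α.2

/-- A subsystem of index prime to `p` that lies in an intermediate system has index prime to `p`
in it. -/
theorem rsl_reslim_primeIdx_mid {S : Subgroup Ω} (p : ℕ) (X Y Z : FusionSystem S)
    (hZX : Z.HasPrimeToPIndexIn X p) (hZY : Z.IsSubsystemOf Y) (hYX : Y.IsSubsystemOf X) :
    Z.HasPrimeToPIndexIn Y p := by
  refine ⟨hZY, fun P hP => ?_⟩
  rw [Subgroup.map_le_iff_le_comap, Subgroup.closure_le]
  rintro α ⟨k, hk⟩
  rw [SetLike.mem_coe, Subgroup.mem_comap]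
  have hle : Y.autGroup P ≤ X.autGroup P := by
    intro β hβ
    rw [Fusion.mem_autGroup_iff X hP]
    exact hYX P ((Fusion.mem_autGroup_iff Y hP β).mp hβ)
  apply hZX.2 P hP
  refine ⟨⟨(α : MulAut P), hle α.2⟩, Subgroup.subset_closure ⟨k, ?_⟩, rfl⟩
  rw [← hk, Subgroup.orderOf_mk, Subgroup.orderOf_coe]

/-- The `p'`-residual subsystem is its own `p'`-residual subsystem. -/
theorem rsl_reslim_self {S : Subgroup Ω} (p : ℕ) (X D : FusionSystem S)
    (hD : X.IsPPrimeResidual p D) : D.IsPPrimeResidual p D := by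
  refine ⟨hD.1, rsl_reslim_primeIdx_self p D, fun Y hYs hYidx => ?_⟩
  exact hD.2.2 Y hYs (rsl_reslim_primeIdx_trans p X D Y hD.2.1 hYidx)

/-- (R): a saturated subsystem of index prime to `p` has the same `p'`-residual subsystem. -/
theorem rsl_reslim_residual_eq {S : Subgroup Ω} (p : ℕ) (X Y : FusionSystem S)
    (hYs : Y.IsSaturated p) (hYidx : Y.HasPrimeToPIndexIn X p) (DX DY : FusionSystem S)
    (hDX : X.IsPPrimeResidual p DX) (hDY : Y.IsPPrimeResidual p DY) : DX = DY := by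
  apply fusionSystem_ext
  intro P
  apply Set.Subset.antisymm
  · exact hDX.2.2 DY hDY.1 (rsl_reslim_primeIdx_trans p X Y DY hYidx hDY.2.1) P
  · have h1 : DX.IsSubsystemOf Y := hDX.2.2 Y hYs hYidx
    exact hDY.2.2 DX hDX.1 (rsl_reslim_primeIdx_mid p X Y DX hDX.2.1 h1 hYidx.1) P

/-- A residual limit is a subsystem (no hypotheses). -/
theorem rsl_reslim_limit_le_aux {S U : Subgroup Ω} {p : ℕ} {F : FusionSystem S}
    {L : FusionSystem U} (hL : L.IsResidualLimitOf F p) : L.IsSubsystemOf F := by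
  induction hL with
  | stable F p h1 h2 => exact fun P => subset_rfl
  | step F p D D' hD hD' hX ih =>
    intro P
    exact (ih P).trans ((hD'.2.1.1 P).trans (hD.2.1 P))

/-- A residual limit is a subsystem. -/
theorem rsl_limit_le {S U : Subgroup Ω} [Finite S] (p : ℕ) [Fact p.Prime] (hS : IsPGroup p S)
    (F : FusionSystem S) (hF : F.IsSaturated p) (L : FusionSystem U)
    (hL : L.IsResidualLimitOf F p) : L.IsSubsystemOf F :=
  rsl_reslim_limit_le_aux hL

/-- Existence of residual limits, by strong induction on the order. -/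
theorem rsl_reslim_exists_aux (p : ℕ) [Fact p.Prime] (n : ℕ) :
    ∀ (S : Subgroup Ω) [Finite S], Nat.card S = n → IsPGroup p S → ∀ F : FusionSystem S,
      F.IsSaturated p → ∃ (U : Subgroup Ω) (L : FusionSystem U), L.IsResidualLimitOf F p := by
  induction n using Nat.strong_induction_on with
  | _ n ih =>
    intro S _ hcard hS F hF
    have hle := Fusion.hyperfocal_le F p
    haveI : Finite (F.hyperfocalSubgroup p) := Fusion.finite_of_le hle
    have hS₁ := hS.to_le hle
    obtain ⟨D, ⟨hDs, hDidx⟩, -⟩ :=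
      Cfsg.Agent.Helper6.Ppi.existsUnique_ppower p hS F hF (F.hyperfocalSubgroup p) hle le_rfl
    obtain ⟨D', hD'⟩ := Cfsg.Agent.Helper2.PPrimeRes.exists_isPPrimeResidual p hS₁ D hDs
    by_cases hlt : Nat.card (F.hyperfocalSubgroup p) < Nat.card S
    · obtain ⟨U, L, hL⟩ := ih _ (hcard ▸ hlt) (F.hyperfocalSubgroup p) rfl hS₁ D' hD'.1
      exact ⟨U, L, IsResidualLimitOf.step F p D D' ⟨hDs, hDidx⟩ hD' hL⟩
    · -- second step, on `D'`
      have hle2 := Fusion.hyperfocal_le D' p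
      haveI : Finite (D'.hyperfocalSubgroup p) := Fusion.finite_of_le hle2
      have hS₂ := hS₁.to_le hle2
      obtain ⟨D₂, ⟨hD₂s, hD₂idx⟩, -⟩ :=
        Cfsg.Agent.Helper6.Ppi.existsUnique_ppower p hS₁ D' hD'.1 (D'.hyperfocalSubgroup p) hle2 le_rfl
      obtain ⟨D₂', hD₂'⟩ := Cfsg.Agent.Helper2.PPrimeRes.exists_isPPrimeResidual p hS₂ D₂ hD₂s
      by_cases hlt2 : Nat.card (D'.hyperfocalSubgroup p) < Nat.card (F.hyperfocalSubgroup p)
      · have hcle : Nat.card (F.hyperfocalSubgroup p) ≤ Nat.card S :=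
          Nat.card_le_card_of_injective _ (Subgroup.inclusion_injective hle)
        have hlt3 : Nat.card (D'.hyperfocalSubgroup p) < n := by omega
        obtain ⟨U, L, hL⟩ := ih _ hlt3 (D'.hyperfocalSubgroup p) rfl hS₂ D₂' hD₂'.1
        have hL' := IsResidualLimitOf.step D' p D₂ D₂' ⟨hD₂s, hD₂idx⟩ hD₂' hL
        exact ⟨U, L, IsResidualLimitOf.step F p D D' ⟨hDs, hDidx⟩ hD' hL'⟩
      · have heq : D'.hyperfocalSubgroup p = F.hyperfocalSubgroup p :=
          Subgroup.eq_of_le_of_card_ge hle2 (not_lt.mp hlt2)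
        have hst := IsResidualLimitOf.stable D' p heq (rsl_reslim_self p D D' hD')
        exact ⟨_, D', IsResidualLimitOf.step F p D D' ⟨hDs, hDidx⟩ hD' hst⟩

/-- Existence of residual limits. -/
theorem rsl_exists_limit {S : Subgroup Ω} [Finite S] (p : ℕ) [Fact p.Prime] (hS : IsPGroup p S)
    (F : FusionSystem S) (hF : F.IsSaturated p) :
    ∃ (U : Subgroup Ω) (L : FusionSystem U), L.IsResidualLimitOf F p :=
  rsl_reslim_exists_aux p _ S rfl hS F hF

/-- (L2), by strong induction on the order. -/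
theorem rsl_reslim_sameLimit_aux (p : ℕ) [Fact p.Prime] (n : ℕ) :
    ∀ (S : Subgroup Ω) [Finite S], Nat.card S = n → IsPGroup p S → ∀ X : FusionSystem S,
      X.IsSaturated p → ∀ Z : FusionSystem S, X.IsPPrimeResidual p Z → SameLimit p X Z := by
  induction n using Nat.strong_induction_on with
  | _ n ih =>
    intro S _ hcard hS X hX Z hZ U V L₁ L₂ hL₁ hL₂
    have hle := Fusion.hyperfocal_le X p
    haveI : Finite (X.hyperfocalSubgroup p) := Fusion.finite_of_le hle
    have hS₁ := hS.to_le hle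
    rcases limit_inv hL₁ with ⟨hLX, hst⟩ | ⟨D, D', hD, hD', hlim⟩
    · have hZX : Z = X := pPrimeResidual_unique p X Z X hZ hst.2
      subst hZX
      exact limit_unique (fun _ => rfl) hS hL₁ hL₂
    · by_cases hhyp : X.hyperfocalSubgroup p = S
      · have hDX : ∀ P, D.Hom P = X.Hom P :=
          Fusion.ppower_index_unique p hS X hhyp D X hD.1 hX hD.2 (hasPPowerIndexIn_self X p)
        have hD'Z : ∀ P, D'.Hom P = Z.Hom P := pPrimeResidual_sameHom p D X hDX D' Z hD' hZ
        exact limit_unique hD'Z hS₁ hlim hL₂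
      · have hlt : Nat.card (X.hyperfocalSubgroup p) < Nat.card S :=
          card_lt_of_lt (lt_of_le_of_ne hle hhyp)
        have hZX : Z.IsSubsystemOf X := hZ.2.1.1
        have hhypZ : Z.hyperfocalSubgroup p ≤ X.hyperfocalSubgroup p :=
          Fusion.hyperfocal_mono p le_rfl Z X hZX
        obtain ⟨Y₁, ⟨hY₁s, hY₁idx⟩, -⟩ :=
          Cfsg.Agent.Helper6.Ppi.existsUnique_ppower p hS Z hZ.1 (X.hyperfocalSubgroup p) hle hhypZ
        have hsc : Z.StronglyClosed (X.hyperfocalSubgroup p) := by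
          have h1 := Fusion.hyperfocal_stronglyClosed p hS X hX
          exact ⟨h1.1, fun R hR φ hφ x => h1.2 R hR φ (hZX R hφ) x⟩
        obtain ⟨W, M, hM⟩ := rsl_reslim_exists_aux p _ (X.hyperfocalSubgroup p) rfl hS₁ Y₁ hY₁s
        have e1 : ∀ P, L₂.Hom P = M.Hom P :=
          limit_of_ppower p hS Z hZ.1 Y₁ hY₁s hsc hY₁idx L₂ hL₂ M hM
        have hZinv := rsl_pPrimeResidual_isInvariantIn p hS X hX Z hZ
        have hdia := rsl_diamond p hS X hX Z hZ.1 hZinv hZ.2.1 D hD Y₁ hY₁s hY₁idx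
        obtain ⟨DY, hDY⟩ := Cfsg.Agent.Helper2.PPrimeRes.exists_isPPrimeResidual p hS₁ Y₁ hY₁s
        have hDD : D' = DY := rsl_reslim_residual_eq p D Y₁ hY₁s hdia D' DY hD' hDY
        subst hDD
        have e2 := ih _ (hcard ▸ hlt) (X.hyperfocalSubgroup p) rfl hS₁ Y₁ hY₁s D' hDY M L₁ hM hlim
        intro P
        rw [e1 P, e2 P]

/-- A saturated system and its `p'`-residual subsystem have the same residual limit. -/
theorem rsl_sameLimit_pPrimeResidual {S : Subgroup Ω} [Finite S] (p : ℕ) [Fact p.Prime]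
    (hS : IsPGroup p S) (X : FusionSystem S) (hX : X.IsSaturated p) (D : FusionSystem S)
    (hD : X.IsPPrimeResidual p D) : SameLimit p X D :=
  rsl_reslim_sameLimit_aux p _ S rfl hS X hX D hD

/-- A saturated system and a saturated subsystem of index prime to `p` have the same residual
limit. -/
theorem rsl_sameLimit_of_pPrimeIndex {S : Subgroup Ω} [Finite S] (p : ℕ) [Fact p.Prime]
    (hS : IsPGroup p S) (X : FusionSystem S) (hX : X.IsSaturated p) (Y : FusionSystem S)
    (hYs : Y.IsSaturated p) (hYidx : Y.HasPrimeToPIndexIn X p) : SameLimit p X Y := by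
  obtain ⟨Z, hZ⟩ := Cfsg.Agent.Helper2.PPrimeRes.exists_isPPrimeResidual p hS X hX
  obtain ⟨ZY, hZY⟩ := Cfsg.Agent.Helper2.PPrimeRes.exists_isPPrimeResidual p hS Y hYs
  have hZZ : Z = ZY := rsl_reslim_residual_eq p X Y hYs hYidx Z ZY hZ hZY
  subst hZZ
  obtain ⟨W, N, hN⟩ := rsl_exists_limit p hS Z hZ.1
  intro U V L₁ L₂ hL₁ hL₂ P
  rw [rsl_sameLimit_pPrimeResidual p hS X hX Z hZ L₁ N hL₁ hN P,
    rsl_sameLimit_pPrimeResidual p hS Y hYs Z hZY L₂ N hL₂ hN P]

end Cfsg.Agent.RSL
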