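import Mathlib
import Cfsg.Prelude.Def_FusionReduction
import Cfsg.Agent.RSL.Basic
import Cfsg.Agent.RSL.Trans
import Cfsg.Agent.RSL.PPowInv
import Cfsg.Agent.Helper4.FusTrE
import Cfsg.Agent.OLV.Gen
import Cfsg.Agent.OLV.HConj
import Cfsg.Agent.OLV.Stable
import Cfsg.Agent.OLV.Frat
import Cfsg.Agent.OLV.NormalGen

set_option autoImplicit false

/-!
# S5202, part E: the system `olvF0` of an invariant subsystem is invariant in the ambient system
-/

namespace Cfsg.Agent.RSL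

open Cfsg Cfsg.FusionSystem Cfsg.Agent.Lead Cfsg.Agent.Lead.StrongInv Cfsg.Agent.Lead.PrimeIdx
  Cfsg.Agent.Helper4.FusTr Cfsg.Agent.OLV

variable {Ω : Type*} [Group Ω]

/-- transport of centric subgroups -/
theorem rsl_img_isCentric {Ω' : Type*} [Group Ω'] {W : Subgroup Ω} {W' : Subgroup Ω'}
    {e : ↥W ≃* ↥W'} {S : Subgroup Ω} {F : FusionSystem S} {S' : Subgroup Ω'}
    {F' : FusionSystem S'} (hF : Img e F F') {P : Subgroup Ω} (hP : F.IsCentric P) :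
    F'.IsCentric (mapS e P) := by
  have hPW : P ≤ W := hP.1.trans hF.le
  refine ⟨hF.mapS_le hP.1, fun Q' hQ' => ?_⟩
  obtain ⟨φ', hφ', hr⟩ := hQ'
  obtain ⟨φ, hφ, hi⟩ := hF.pull hφ' (mapS_symm_mapS e hPW).symm
  have hc := hP.2 φ.range ⟨φ, hφ, rfl⟩
  have hrange : φ'.range = mapS e φ.range := hi.range
  have hrW : φ.range ≤ W := by
    rintro _ ⟨x, rfl⟩
    exact hF.le ((F.le_of_mem hφ).2 x)
  rw [← hr, hrange, hF.eq, ← mapS_centralizerIn e hF.le hrW]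
  exact mapS_mono e hc

/-- the pull-back of a system over `S'` along an automorphism of `S'`, as a system over `S'` -/
theorem rsl_exists_img_same {S' : Subgroup Ω} (α : MulAut ↥S') (D : FusionSystem S') :
    ∃ D' : FusionSystem S', Img (W := S') (W' := S') α D' D := by
  have key : ∀ (U : Subgroup Ω) (D'' : FusionSystem U), U = S' →
      Img (W := S') (W' := S') α.symm D D'' → ∃ D' : FusionSystem S', Img (W := S') (W' := S') α D' D := by
    intro U D'' hU h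
    subst hU
    exact ⟨D'', h.of_symm⟩
  exact key _ (imgFS (W := S') (W' := S') α.symm D le_rfl) (mapS_self (W := S') (W' := S') α.symm)
    (imgFS_img (W := S') (W' := S') α.symm D le_rfl)

/-- an `Fa`-automorphism of `S'` induces an automorphism of the invariant subsystem `E` over `T` -/
theorem rsl_img_of_invariant_sub {S₀ S' T : Subgroup Ω} (Fa : FusionSystem S₀) (hS'S₀ : S' ≤ S₀)
    (hTS' : T ≤ S') (E : FusionSystem T) (hEa : E.IsInvariantIn Fa) (α : MulAut ↥S')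
    (hα : α ∈ Fa.autGroup S') :
    ∃ (hT : T = mapS (W := S') (W' := S') α T),
      pe (W := S') (W' := S') α hTS' hT ∈ Fa.autGroup T ∧ Img (W := S') (W' := S') α E E := by
  have hT : T = mapS (W := S') (W' := S') α T :=
    (rsl_mapS_eq_of_stronglyClosed Fa hS'S₀ hTS' hEa.2.1 α hα).symm
  have hαT : pe (W := S') (W' := S') α hTS' hT ∈ Fa.autGroup T := by
    rw [Fusion.mem_autGroup_iff Fa (hTS'.trans hS'S₀)]
    have hφ := (Fusion.mem_autGroup_iff Fa hS'S₀ α).mp hα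
    have h1 := Fusion.restrict_mem Fa hφ hTS'
    convert h1 using 1
    ext x
    rfl
  refine ⟨hT, hαT, ?_⟩
  have h2 : Img (W := T) (W' := T) (pe (W := S') (W' := S') α hTS' hT) E E :=
    Img.of_invariant hEa _ hαT
  refine h2.congr (W₀ := S') (W₀' := S') α hTS' ?_
  intro x hx y hxy
  exact ((rel_pe_iff (W := S') (W' := S') (e := α) hTS' hT x y).mp hxy).2

/-- the core of part E: an `Fa`-automorphism of `S'` preserves the family `olvH` and the auxiliary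
system on it -/
theorem rsl_olvSys_stable {S₀ S' T : Subgroup Ω} (Fa : FusionSystem S₀)
    (F' : FusionSystem S') (hF'inv : F'.IsInvariantIn Fa)
    (E : FusionSystem T) (hEa : E.IsInvariantIn Fa)
    {K : Subgroup (MulAut T)} [Finite T] (h : Setup F' E K)
    (hKa : ∀ b ∈ Fa.autGroup T, ∀ k ∈ K, b * k * b⁻¹ ∈ K)
    (α : MulAut ↥S') (hα : α ∈ Fa.autGroup S') {P P' : Subgroup Ω} (hP : P ∈ olvH F' E)
    {φ : ↥P →* Ω} {φ' : ↥P' →* Ω} (hφ : φ ∈ (olvSys h).Hom P)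
    (hi : Ind (W := S') (W' := S') α φ φ') :
    P' ∈ olvH F' E ∧ φ' ∈ (olvSys h).Hom P' := by
  have hS'S₀ : S' ≤ S₀ := hF'inv.2.1.1
  have hTS' : T ≤ S' := h.le
  have hF' : Img (W := S') (W' := S') α F' F' := Img.of_invariant hF'inv α hα
  obtain ⟨hT, hαT, hE'⟩ := rsl_img_of_invariant_sub Fa hS'S₀ hTS' E hEa α hα
  set αT : MulAut ↥T := pe (W := S') (W' := S') α hTS' hT with hαTdef
  have hαTv : ∀ t : ↥T, ((αT t : ↥T) : Ω) = ((α ⟨t, hTS' t.2⟩ : ↥S') : Ω) := fun t => rfl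
  have hP'eq : P' = mapS (W := S') (W' := S') α P := hi.eq
  have hinf : P' ⊓ T = mapS (W := S') (W' := S') α (P ⊓ T) := by
    rw [mapS_inf, ← hP'eq, ← hT]
  constructor
  · refine ⟨?_, ?_⟩
    · rw [hP'eq]
      exact rsl_img_isCentric hF' hP.1
    · rw [hinf]
      exact rsl_img_isCentric hE' hP.2
  · obtain ⟨hφF, hφT, a, ha, φ₀, hφ₀, hv⟩ := hφ
    obtain ⟨k, hk, hkv⟩ := (mem_olvA_top h a).mp ha
    have hφ'F : φ' ∈ F'.Hom P' := (hF'.iff hi).mp hφF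
    refine ⟨hφ'F, Fusion.restrict_mem F' hφ'F inf_le_left, ?_⟩
    obtain ⟨φ₀', hφ₀', hi₀⟩ := hE'.push hφ₀ hinf
    have hk' : αT * k * αT⁻¹ ∈ K := hKa αT hαT k hk
    refine ⟨T.subtype.comp (αT * k * αT⁻¹).toMonoidHom,
      (mem_olvA_top h _).mpr ⟨_, hk', fun t => rfl⟩, φ₀', hφ₀', fun y => ?_⟩
    obtain ⟨x, hx⟩ := exists_rel_of_eq_mapS' (W := S') (W' := S') α
      ((inf_le_right : P ⊓ T ≤ T).trans hTS') hinf y
    have h1 := hi.app (x := Subgroup.inclusion (inf_le_left : P ⊓ T ≤ P) x)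
      (y := Subgroup.inclusion (inf_le_left : P' ⊓ T ≤ P') y) hx
    have h2 := hi₀.app hx
    have hφ₀T : φ₀ x ∈ T := (E.le_of_mem hφ₀).2 x
    have hφ₀'T : φ₀' y ∈ T := (E.le_of_mem hφ₀').2 y
    -- `φ₀' y = αT (φ₀ x)`
    have h3 : (⟨φ₀' y, hφ₀'T⟩ : ↥T) = αT ⟨φ₀ x, hφ₀T⟩ := by
      apply Subtype.ext
      obtain ⟨h4, h5⟩ := h2
      rw [hαTv]
      exact h5.symm
    show φ' (Subgroup.inclusion inf_le_left y) =
      (((αT * k * αT⁻¹) ⟨φ₀' y, hφ₀'T⟩ : ↥T) : Ω)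
    rw [h3]
    have h6 : (αT * k * αT⁻¹) (αT ⟨φ₀ x, hφ₀T⟩) = αT (k ⟨φ₀ x, hφ₀T⟩) := by
      simp [MulAut.mul_apply]
    rw [h6, hαTv]
    obtain ⟨h7, h8⟩ := h1
    rw [← h8]
    have h9 : φ (Subgroup.inclusion (inf_le_left : P ⊓ T ≤ P) x) = ((k ⟨φ₀ x, hφ₀T⟩ : ↥T) : Ω) := by
      have := hv x
      rw [hkv] at this
      exact this
    congr 2
    exact Subtype.ext h9

/-- maps of `olvF0` go to maps of `olvF0` under the `Fa`-automorphisms of `S'` -/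
theorem rsl_olvF0_push {S₀ S' T : Subgroup Ω} (Fa : FusionSystem S₀)
    (F' : FusionSystem S') (hF'inv : F'.IsInvariantIn Fa)
    (E : FusionSystem T) (hEa : E.IsInvariantIn Fa)
    {K : Subgroup (MulAut T)} [Finite T] (h : Setup F' E K)
    (hKa : ∀ b ∈ Fa.autGroup T, ∀ k ∈ K, b * k * b⁻¹ ∈ K)
    (β : MulAut ↥S') (hβ : β ∈ Fa.autGroup S') {P P' : Subgroup Ω}
    {φ : ↥P →* Ω} {φ' : ↥P' →* Ω} (hφ : φ ∈ (olvF0 h).Hom P)
    (hi : Ind (W := S') (W' := S') β φ φ') : φ' ∈ (olvF0 h).Hom P' := by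
  have hF' : Img (W := S') (W' := S') β F' F' := Img.of_invariant hF'inv β hβ
  refine ⟨(hF'.iff hi).mp (olvF0_le h P hφ), fun D hD => ?_⟩
  obtain ⟨D', hD'⟩ := rsl_exists_img_same β D
  have hD'mem : ∀ Q ∈ olvH F' E, (olvSys h).Hom Q ⊆ D'.Hom Q := by
    intro Q hQ ψ hψ
    have hQS' : Q ≤ S' := hQ.1.1
    obtain ⟨ψ', hiψ⟩ := Ind.exists (W := S') (W' := S') β ψ hQS'
      (fun x => (F'.le_of_mem (olvSys_le h Q hψ)).2 x) rfl
    obtain ⟨hQ', hψ'⟩ := rsl_olvSys_stable Fa F' hF'inv E hEa h hKa β hβ hQ hψ hiψ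
    exact (hD'.iff hiψ).mpr (hD _ hQ' hψ')
  have h1 := olvF0_min h D' hD'mem P hφ
  exact (hD'.iff hi).mp h1

theorem rsl_olvF0_stable {S₀ S' T : Subgroup Ω} (Fa : FusionSystem S₀)
    (F' : FusionSystem S') (hF'inv : F'.IsInvariantIn Fa)
    (E : FusionSystem T) (hEa : E.IsInvariantIn Fa)
    {K : Subgroup (MulAut T)} [Finite T] (h : Setup F' E K)
    (hKa : ∀ b ∈ Fa.autGroup T, ∀ k ∈ K, b * k * b⁻¹ ∈ K) :
    rslStable Fa S' (olvF0 h) := by
  intro α hα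
  refine ⟨le_rfl, (mapS_self (W := S') (W' := S') α).symm, fun {P P' φ φ'} _ hi => ⟨?_, ?_⟩⟩
  · intro hφ
    exact rsl_olvF0_push Fa F' hF'inv E hEa h hKa α hα hφ hi
  · intro hφ'
    exact rsl_olvF0_push Fa F' hF'inv E hEa h hKa α⁻¹ (Subgroup.inv_mem _ hα) hφ' hi.symm

theorem rsl_olvF0_isInvariantIn {S₀ S' T : Subgroup Ω} [Finite S₀] (p : ℕ) [Fact p.Prime]
    (hS₀ : IsPGroup p S₀) (Fa : FusionSystem S₀) (hFa : Fa.IsSaturated p)
    (F' : FusionSystem S') (hF's : F'.IsSaturated p) (hF'inv : F'.IsInvariantIn Fa)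
    (E : FusionSystem T) (hE : E.IsNormalIn F' p) (hEa : E.IsInvariantIn Fa)
    {K : Subgroup (MulAut T)} [Finite T] (h : Cfsg.Agent.OLV.Setup F' E K)
    (hKa : ∀ b ∈ Fa.autGroup T, ∀ k ∈ K, b * k * b⁻¹ ∈ K) :
    (Cfsg.Agent.OLV.olvF0 h).IsInvariantIn Fa := by
  have hS'S₀ : S' ≤ S₀ := hF'inv.2.1.1
  have : Finite S' := Fusion.finite_of_le hS'S₀
  have hS' : IsPGroup p S' := hS₀.to_le hS'S₀
  have h₁ : (olvF0 h).IsInvariantIn F' :=
    olv_gen_isInvariantIn p hS' F' hF's (olvSys h) (olvF0 h) (olvH F' E) (olvF0_le h) (olvSys_le h)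
      (olvSys_le_olvF0 h) (olvF0_min h) (fun P hP Q hPQ => olvH_conj h hP hPQ)
      (fun _ hPc hPr => olvH_of_centric_radical p hS' hF's hE hPc hPr)
      (fun _ hPS α hα k hk => pElement_mem_olvSys p hS' hF's h hPS α hα k hk)
      (olvSys_SItop h)
  exact rsl_invariant_trans p hS₀ Fa hFa F' hF'inv (olvF0 h) h₁
    (rsl_olvF0_stable Fa F' hF'inv E hEa h hKa)

end Cfsg.Agent.RSL
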