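import Mathlib
import Cfsg.Prelude.Def_FusionReduction
import Cfsg.Agent.RSL.Basic
import Cfsg.Agent.RSL.Group
import Cfsg.Agent.RSL.PPowInv
import Cfsg.Agent.RSL.NormalSub
import Cfsg.Agent.RSL.OlvInv
import Cfsg.Agent.HFP.Wrap
import Cfsg.Agent.Helper6.PpiH
import Cfsg.Agent.Helper6.ResLimB
import Cfsg.Agent.Lead.FusionCenterFactor
import Cfsg.Agent.Lead.FusionWeak
import Cfsg.Agent.Lead.FusionFocal

set_option autoImplicit false

/-!
# S5202, piece H: the `p`-step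

`K = A O^p(G') < G'` for `A = Aut_E(T)`, `G' = Aut_{F'}(T)`.  `S₁ = {s ∈ S' | c_s|T ∈ K}` and `F₁` the
saturated subsystem of `p`-power index of `F'` over `S₁`.
-/

namespace Cfsg.Agent.RSL

open Cfsg Cfsg.FusionSystem Cfsg.Agent.Lead Cfsg.Agent.Lead.StrongInv Cfsg.Agent.HFP
  Cfsg.Agent.Helper4.FusTr

variable {Ω : Type*} [Group Ω]

/-- monotonicity of `Aut_·(T)` along subsystems -/
theorem rsl_stepP_autGroup_le {S₁ S₂ T : Subgroup Ω} (F₁ : FusionSystem S₁) (F₂ : FusionSystem S₂)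
    (h : F₁.IsSubsystemOf F₂) (hT₁ : T ≤ S₁) (hT₂ : T ≤ S₂) : F₁.autGroup T ≤ F₂.autGroup T := by
  intro a ha
  rw [Fusion.mem_autGroup_iff F₂ hT₂]
  exact h T ((Fusion.mem_autGroup_iff F₁ hT₁ a).mp ha)

/-- `S₁ = {s ∈ S' | c_s|T ∈ K}` is strongly closed in the ambient system when `K` is normalized by
`Aut_Fa(T)`. -/
theorem rsl_stepP_stronglyClosed {S₀ S' T : Subgroup Ω} (Fa : FusionSystem S₀)
    (F' : FusionSystem S') (hF'inv : F'.IsInvariantIn Fa) (E : FusionSystem T)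
    (hEa : E.IsInvariantIn Fa) (hTS' : T ≤ S') (K : Subgroup (MulAut T))
    (hKa : ∀ b ∈ Fa.autGroup T, ∀ k ∈ K, b * k * b⁻¹ ∈ K)
    (hsc : F'.StronglyClosed (hfpSone S' T K)) : Fa.StronglyClosed (hfpSone S' T K) := by
  have hS'S₀ : S' ≤ S₀ := hF'inv.2.1.1
  have hS₁S' : hfpSone S' T K ≤ S' := hfpSone_le S' T K
  refine ⟨hS₁S'.trans hS'S₀, fun R hR φ hφ x => ?_⟩
  obtain ⟨α, hα, φ₀, hφ₀, hv⟩ := hF'inv.2.2.2 R (hR.trans hS₁S') φ hφ
  have h0 : φ₀ x ∈ hfpSone S' T K := hsc.2 R hR φ₀ hφ₀ x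
  have h0' : φ₀ x ∈ S' := hS₁S' h0
  rw [hv x h0']
  obtain ⟨hTm, hαT, -⟩ := rsl_img_of_invariant_sub Fa hS'S₀ hTS' E hEa α hα
  set αT : MulAut ↥T := pe (W := S') (W' := S') α hTS' hTm with hαTdef
  have hαTv : ∀ t : ↥T, ((αT t : ↥T) : Ω) = ((α ⟨t, hTS' t.2⟩ : ↥S') : Ω) := fun t => rfl
  obtain ⟨-, k, hk, hkx⟩ := (mem_hfpSone S' T K _).mp h0
  refine (mem_hfpSone S' T K _).mpr ⟨(α ⟨φ₀ x, h0'⟩).2, αT * k * αT⁻¹, hKa αT hαT k hk,
    fun t => ?_⟩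
  have h1 : (αT * k * αT⁻¹) t = αT (k (αT⁻¹ t)) := rfl
  rw [h1, hαTv]
  have h2 : (⟨((k (αT⁻¹ t) : ↥T) : Ω), hTS' (k (αT⁻¹ t)).2⟩ : ↥S') =
      ⟨φ₀ x, h0'⟩ * ⟨((αT⁻¹ t : ↥T) : Ω), hTS' (αT⁻¹ t).2⟩ * ⟨φ₀ x, h0'⟩⁻¹ :=
    Subtype.ext (by rw [hkx]; rfl)
  have h3 : ((α ⟨((αT⁻¹ t : ↥T) : Ω), hTS' (αT⁻¹ t).2⟩ : ↥S') : Ω) = t := by
    rw [← hαTv, MulAut.apply_inv_self]
  rw [h2, map_mul, map_mul, map_inv]
  simp only [Subgroup.coe_mul, Subgroup.coe_inv, h3]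

theorem rsl_stepP {S₀ S' T : Subgroup Ω} [Finite S₀] (p : ℕ) [Fact p.Prime] (hS₀ : IsPGroup p S₀)
    (Fa : FusionSystem S₀) (hFa : Fa.IsSaturated p) (E : FusionSystem T) (hEa : E.IsInvariantIn Fa)
    (F' : FusionSystem S') (hctx : Ctx p Fa E F')
    (hlt : rslKp p (E.autGroup T) (F'.autGroup T) < F'.autGroup T) :
    ∃ (S₁ : Subgroup Ω) (F₁ : FusionSystem S₁), Ctx p Fa E F₁ ∧ F₁.IsSubsystemOf F' ∧
      centralizerIn S₁ T = centralizerIn S' T ∧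
      Nat.card (F₁.autGroup T) < Nat.card (F'.autGroup T) ∧ SameLimit p F' F₁ := by
  obtain ⟨hF's, hF'inv, hEn⟩ := hctx
  have hS'S₀ : S' ≤ S₀ := hF'inv.2.1.1
  have : Finite S' := Fusion.finite_of_le hS'S₀
  have hS' : IsPGroup p S' := hS₀.to_le hS'S₀
  have hEinv' : E.IsInvariantIn F' := hEn.1.2.2
  have hT : F'.StronglyClosed T := hEinv'.2.1
  have hTS' : T ≤ S' := hT.1
  have : Finite T := Fusion.finite_of_le hTS'
  have hTS₀ : T ≤ S₀ := hTS'.trans hS'S₀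
  have hAG' : E.autGroup T ≤ F'.autGroup T :=
    rsl_stepP_autGroup_le E F' hEinv'.1 le_rfl hTS'
  have hG'a : F'.autGroup T ≤ Fa.autGroup T :=
    rsl_stepP_autGroup_le F' Fa hF'inv.1 hTS' hTS₀
  -- `K` and its normalization
  have hKa : ∀ b ∈ Fa.autGroup T, ∀ k ∈ rslKp p (E.autGroup T) (F'.autGroup T),
      b * k * b⁻¹ ∈ rslKp p (E.autGroup T) (F'.autGroup T) := fun b hb k hk =>
    rslKp_conj_mem p
      (fun a ha => conj_mem_autGroup Fa E (SI_of_invariant Fa E hEa) hTS₀ le_rfl b a hb ha)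
      (fun g hg => conj_mem_autGroup Fa F' (SI_of_invariant Fa F' hF'inv) hS'S₀ hTS' b g hb hg) hk
  have hKn : ∀ a ∈ F'.autGroup T, ∀ k ∈ rslKp p (E.autGroup T) (F'.autGroup T),
      a * k * a⁻¹ ∈ rslKp p (E.autGroup T) (F'.autGroup T) := fun a ha => hKa a (hG'a ha)
  have hInn : autInducedBy T T ≤ rslKp p (E.autGroup T) (F'.autGroup T) :=
    (Fusion.autInducedBy_le_autGroup E le_rfl).trans (le_rslKp p _ _)
  have hp : ∀ a ∈ F'.autGroup T, ∃ n : ℕ,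
      a ^ (p ^ n) ∈ rslKp p (E.autGroup T) (F'.autGroup T) := fun a ha =>
    rsl_pow_mem_rslKp p _ ha
  -- `S₁`
  have hS₁S' : hfpSone S' T (rslKp p (E.autGroup T) (F'.autGroup T)) ≤ S' := hfpSone_le _ _ _
  have hS₁sc : F'.StronglyClosed (hfpSone S' T (rslKp p (E.autGroup T) (F'.autGroup T))) :=
    hfpK_Sone_stronglyClosed p hS' F' hF's hT _ hKn hInn
  have hhyp : F'.hyperfocalSubgroup p ≤ hfpSone S' T (rslKp p (E.autGroup T) (F'.autGroup T)) :=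
    hfpK_hyperfocal_le p hS' F' hF's hT _ hKn hInn hp
  have hS₁a : Fa.StronglyClosed (hfpSone S' T (rslKp p (E.autGroup T) (F'.autGroup T))) :=
    rsl_stepP_stronglyClosed Fa F' hF'inv E hEa hTS' _ hKa hS₁sc
  have hU : T ⊔ centralizerIn S' T ≤ hfpSone S' T (rslKp p (E.autGroup T) (F'.autGroup T)) := by
    refine sup_le ?_ ?_
    · intro t ht
      refine (mem_hfpSone S' T _ t).mpr ⟨hTS' ht, MulAut.conj (⟨t, ht⟩ : ↥T), hInn ?_, fun x => rfl⟩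
      exact (mem_autInducedBy_iff T T _).mpr ⟨t, ht, fun x => rfl⟩
    · intro c hc
      refine (mem_hfpSone S' T _ c).mpr ⟨hc.1, 1, Subgroup.one_mem _, fun x => ?_⟩
      have h1 := (Subgroup.mem_centralizer_iff.mp hc.2) x x.2
      show (x : Ω) = c * x * c⁻¹
      rw [← h1, mul_inv_cancel_right]
  -- `F₁`
  obtain ⟨F₁, ⟨hF₁s, hidx⟩, -⟩ :=
    Cfsg.Agent.Helper6.Ppi.existsUnique_ppower p hS' F' hF's _ hS₁S' hhyp
  have hTS₁ : T ≤ hfpSone S' T (rslKp p (E.autGroup T) (F'.autGroup T)) := le_sup_left.trans hU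
  have : Finite ↥(hfpSone S' T (rslKp p (E.autGroup T) (F'.autGroup T))) :=
    Fusion.finite_of_le hS₁S'
  have hS₁p : IsPGroup p ↥(hfpSone S' T (rslKp p (E.autGroup T) (F'.autGroup T))) :=
    hS'.to_le hS₁S'
  have hinv : F₁.IsInvariantIn Fa :=
    rsl_ppower_isInvariantIn p hS₀ Fa hFa F' hF's hF'inv F₁ hF₁s hidx hS₁a
  have hnrm : E.IsNormalIn F₁ p :=
    rsl_isNormalIn_ppower p hS' F' hF's E hEn F₁ hF₁s hidx hS₁sc hU
  have hC : centralizerIn (hfpSone S' T (rslKp p (E.autGroup T) (F'.autGroup T))) T =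
      centralizerIn S' T := by
    unfold centralizerIn
    apply le_antisymm
    · exact inf_le_inf_right _ hS₁S'
    · intro c hc
      exact Subgroup.mem_inf.mpr ⟨hU ((le_sup_right : centralizerIn S' T ≤ _) hc),
        (Subgroup.mem_inf.mp hc).2⟩
  -- `Aut_{F₁}(T) ≤ K`
  have hF₁G' : F₁.autGroup T ≤ F'.autGroup T := rsl_stepP_autGroup_le F₁ F' hidx.1 hTS₁ hTS'
  have hT₁ : F₁.StronglyClosed T := ⟨hTS₁, fun R hR φ hφ x => hT.2 R hR φ (hidx.1 R hφ) x⟩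
  have hfn := Fusion.fullyNormalized_of_weaklyClosed F₁
    (Fusion.weaklyClosed_of_stronglyClosed F₁ hT₁)
  obtain ⟨-, hfa⟩ := Fusion.fullyCentralized_fullyAutomized_of_fullyNormalized p hS₁p F₁ hF₁s hfn
  obtain ⟨-, R, hR⟩ := hfa
  have hle : F₁.autGroup T ≤ rslKp p (E.autGroup T) (F'.autGroup T) := by
    have hsup := pResidual_sup_sylow' R
    have h1 : Cfsg.pResidual p ↥(F₁.autGroup T) ≤
        (rslKp p (E.autGroup T) (F'.autGroup T)).subgroupOf (F₁.autGroup T) := by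
      unfold Cfsg.pResidual
      rw [Subgroup.closure_le]
      intro g hg
      rw [SetLike.mem_coe, Subgroup.mem_subgroupOf]
      refine rsl_coprime_mem p _ (hF₁G' g.2) ?_
      rw [Subgroup.orderOf_coe]; exact hg
    have h2 : (R : Subgroup ↥(F₁.autGroup T)) ≤
        (rslKp p (E.autGroup T) (F'.autGroup T)).subgroupOf (F₁.autGroup T) := by
      rw [hR]
      intro β hβ
      rw [Subgroup.mem_subgroupOf] at hβ ⊢
      obtain ⟨s, hs, hsv⟩ := (mem_autInducedBy_iff _ T _).mp hβ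
      obtain ⟨-, k, hk, hkv⟩ := (mem_hfpSone S' T _ s).mp hs
      have hβk : (β : MulAut ↥T) = k := by
        ext t
        rw [hsv, hkv]
      rw [hβk]; exact hk
    have h3 : (⊤ : Subgroup ↥(F₁.autGroup T)) ≤
        (rslKp p (E.autGroup T) (F'.autGroup T)).subgroupOf (F₁.autGroup T) := by
      rw [← hsup]; exact sup_le h1 h2
    intro a ha
    have := h3 (Subgroup.mem_top (⟨a, ha⟩ : ↥(F₁.autGroup T)))
    rwa [Subgroup.mem_subgroupOf] at this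
  have hcard : Nat.card ↥(F₁.autGroup T) < Nat.card ↥(F'.autGroup T) := by
    have h1 : Nat.card ↥(F₁.autGroup T) ≤
        Nat.card ↥(rslKp p (E.autGroup T) (F'.autGroup T)) := Subgroup.card_le_of_le hle
    have h2 : Nat.card ↥(rslKp p (E.autGroup T) (F'.autGroup T)) < Nat.card ↥(F'.autGroup T) := by
      by_contra h
      rw [not_lt] at h
      exact hlt.ne (Subgroup.eq_of_le_of_card_ge hlt.le h)
    exact lt_of_le_of_lt h1 h2
  refine ⟨_, F₁, ⟨hF₁s, hinv, hnrm⟩, hidx.1, hC, hcard, ?_⟩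
  intro U V L₁ L₂ h₁ h₂
  exact Cfsg.Agent.Helper6.ResLim.limit_of_ppower p hS' F' hF's F₁ hF₁s hS₁sc hidx L₁ h₁ L₂ h₂

end Cfsg.Agent.RSL
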