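import Mathlib
import Cfsg.Prelude.Def_FusionReduction
import Cfsg.Agent.RSL.Basic
import Cfsg.Agent.RSL.Group
import Cfsg.Agent.RSL.OlvInv
import Cfsg.Agent.RSL.NormalSub
import Cfsg.Agent.RSL.ResLim
import Cfsg.Agent.OLV.Contain
import Cfsg.Agent.OLV.Sat
import Cfsg.Agent.OLV.Props
import Cfsg.Agent.Lead.FusionStrongInvD

/-!
S5202 (`notes/S5202_helper9.md`), piece G: the `p'`-step.  If `K = A O^{p'}(G')` is a proper subgroup
of `G' = Aut_{F'}(T)` (`A = Aut_E(T)`), the system `olvF0` built from `K` is again in the context,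
has fewer automorphisms of `T` and the same residual limit.
-/

set_option autoImplicit false

namespace Cfsg.Agent.RSL

open Cfsg Cfsg.FusionSystem Cfsg.Agent.Lead Cfsg.Agent.Lead.StrongInv

variable {Ω : Type*} [Group Ω]

/-- `Aut_E(T)` is normalized by `Aut_F(T)` when `E` is invariant in `F`. -/
theorem rsl_stepQ_conj_mem {S T : Subgroup Ω} (F : FusionSystem S) (E : FusionSystem T)
    (hinv : E.IsInvariantIn F) {P : Subgroup Ω} (hPT : P ≤ T) (b a : MulAut P)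
    (hb : b ∈ F.autGroup P) (ha : a ∈ E.autGroup P) : b * a * b⁻¹ ∈ E.autGroup P :=
  conj_mem_autGroup F E (SI_of_invariant F E hinv) hinv.2.1.1 hPT b a hb ha

/-- `Aut_E(P) ≤ Aut_F(P)` for a subsystem. -/
theorem rsl_stepQ_autGroup_le {S T : Subgroup Ω} {F : FusionSystem S} {E : FusionSystem T}
    (hsub : E.IsSubsystemOf F) (hTS : T ≤ S) {P : Subgroup Ω} (hPT : P ≤ T) :
    E.autGroup P ≤ F.autGroup P := by
  intro α hα
  rw [Fusion.mem_autGroup_iff F (hPT.trans hTS)]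
  exact hsub P ((Fusion.mem_autGroup_iff E hPT α).mp hα)

/-- The `OLV` setup for `K = A O^{p'}(Aut_{F'}(T))`. -/
theorem rsl_stepQ_setup {S' T : Subgroup Ω} [Finite S'] (p : ℕ) [Fact p.Prime]
    (hS' : IsPGroup p S') (F' : FusionSystem S') (E : FusionSystem T)
    (hinv : E.IsInvariantIn F') :
    Cfsg.Agent.OLV.Setup F' E (rslKq p (E.autGroup T) (F'.autGroup T)) := by
  have hTS : T ≤ S' := hinv.2.1.1
  have hAG : E.autGroup T ≤ F'.autGroup T := rsl_stepQ_autGroup_le hinv.1 hTS le_rfl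
  have : Finite T := Fusion.finite_of_le hTS
  have : Finite (MulAut T) := inferInstance
  refine ⟨hinv, rslKq_le p hAG, ?_, ?_, le_rslKq p _ _⟩
  · intro t ht
    have htG : t ∈ F'.autGroup T := Fusion.autInducedBy_le_autGroup F' hTS ht
    have hpg := Fusion.isPGroup_autInducedBy p hS' T
    obtain ⟨k, hk⟩ := (IsPGroup.iff_orderOf.mp hpg) ⟨t, ht⟩
    rw [Subgroup.orderOf_mk] at hk
    exact rsl_pElement_mem p _ htG k hk
  · intro a ha k hk
    exact rslKq_conj_mem p (fun x hx => rsl_stepQ_conj_mem F' E hinv le_rfl a x ha hx)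
      (fun g hg => (F'.autGroup T).mul_mem ((F'.autGroup T).mul_mem ha hg)
        ((F'.autGroup T).inv_mem ha)) hk

/-- Piece G: the `p'`-step. -/
theorem rsl_stepQ {S₀ S' T : Subgroup Ω} [Finite S₀] (p : ℕ) [Fact p.Prime] (hS₀ : IsPGroup p S₀)
    (Fa : FusionSystem S₀) (hFa : Fa.IsSaturated p) (E : FusionSystem T) (hEa : E.IsInvariantIn Fa)
    (F' : FusionSystem S') (hctx : Ctx p Fa E F')
    (hlt : rslKq p (E.autGroup T) (F'.autGroup T) < F'.autGroup T) :
    ∃ F₁ : FusionSystem S', Ctx p Fa E F₁ ∧ F₁.IsSubsystemOf F' ∧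
      Nat.card (F₁.autGroup T) < Nat.card (F'.autGroup T) ∧ SameLimit p F' F₁ := by
  have hS'S₀ : S' ≤ S₀ := hctx.inv.2.1.1
  have hinv : E.IsInvariantIn F' := hctx.nrm.1.2.2
  have hTS' : T ≤ S' := hinv.2.1.1
  have hTS₀ : T ≤ S₀ := hTS'.trans hS'S₀
  have : Finite S' := Fusion.finite_of_le hS'S₀
  have : Finite T := Fusion.finite_of_le hTS₀
  have : Finite (MulAut T) := inferInstance
  have hS' : IsPGroup p S' := hS₀.to_le hS'S₀
  have h := rsl_stepQ_setup p hS' F' E hinv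
  have hsat := Cfsg.Agent.OLV.olvF0_isSaturated p hS' hctx.sat hctx.nrm h
  have hidx := Cfsg.Agent.OLV.olvF0_hasPrimeToPIndexIn p hS' hctx.sat hctx.nrm h
  -- `K` is normalized by `Aut_Fa(T)`
  have hKa : ∀ b ∈ Fa.autGroup T, ∀ k ∈ rslKq p (E.autGroup T) (F'.autGroup T),
      b * k * b⁻¹ ∈ rslKq p (E.autGroup T) (F'.autGroup T) := by
    intro b hb k hk
    exact rslKq_conj_mem p (fun x hx => rsl_stepQ_conj_mem Fa E hEa le_rfl b x hb hx)
      (fun g hg => rsl_stepQ_conj_mem Fa F' hctx.inv hTS' b g hb hg) hk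
  refine ⟨Cfsg.Agent.OLV.olvF0 h, ⟨hsat, ?_, ?_⟩, Cfsg.Agent.OLV.olvF0_le h, ?_, ?_⟩
  · exact rsl_olvF0_isInvariantIn p hS₀ Fa hFa F' hctx.sat hctx.inv E hctx.nrm hEa h hKa
  · exact rsl_isNormalIn_olvF0 p hS' F' hctx.sat E hctx.nrm h
  · -- `Aut_{F₁}(T) ≤ K < Aut_{F'}(T)`
    have hle : (Cfsg.Agent.OLV.olvF0 h).autGroup T ≤ rslKq p (E.autGroup T) (F'.autGroup T) := by
      intro a ha
      have h1 := (Fusion.mem_autGroup_iff _ hTS' a).mp ha
      have h2 := Cfsg.Agent.OLV.olvF0_le_olvSys h T h1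
      have h3 := (Cfsg.Agent.OLV.olvSys_hom_of_le h le_rfl _).mp h2
      have h4 : a ∈ (Cfsg.Agent.OLV.olvT h).autGroup T :=
        (Fusion.mem_autGroup_iff _ le_rfl a).mpr h3
      rwa [Cfsg.Agent.OLV.olvT_autGroup] at h4
    have hss : ((Cfsg.Agent.OLV.olvF0 h).autGroup T : Set (MulAut T)) ⊂
        (F'.autGroup T : Set (MulAut T)) :=
      lt_of_le_of_lt (SetLike.coe_subset_coe.mpr hle) (SetLike.coe_ssubset_coe.mpr hlt)
    have := Set.ncard_lt_ncard hss (Set.toFinite _)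
    rwa [← Nat.card_coe_set_eq, ← Nat.card_coe_set_eq] at this
  · exact rsl_sameLimit_of_pPrimeIndex p hS' F' hctx.sat _ hsat hidx

end Cfsg.Agent.RSL
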