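import Mathlib
import Cfsg.Prelude.Def_FusionReduction
import Cfsg.Agent.RSL.Basic
import Cfsg.Agent.RSL.Group
import Cfsg.Agent.RSL.StepQ
import Cfsg.Agent.RSL.StepP
import Cfsg.Agent.RSL.ResLim
import Cfsg.Agent.RSL.Final
import Cfsg.Agent.Lead.FusionStrongInvD
import Cfsg.Agent.Helper6.ResLimA

set_option autoImplicit false

/-!
# S5202, part J: the induction
-/

namespace Cfsg.Agent.RSL

open Cfsg Cfsg.FusionSystem Cfsg.Agent.Lead Cfsg.Agent.Lead.StrongInv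

variable {Ω : Type*} [Group Ω]

theorem rsl_main {S₀ T : Subgroup Ω} [Finite S₀] (p : ℕ) [Fact p.Prime] (hS₀ : IsPGroup p S₀)
    (Fa : FusionSystem S₀) (hFa : Fa.IsSaturated p) (E : FusionSystem T) (hEa : E.IsInvariantIn Fa)
    (hstep : ∀ G' : Subgroup (MulAut T), E.autGroup T ≤ G' → G' ≤ Fa.autGroup T →
      G' ≠ E.autGroup T →
      rslKq p (E.autGroup T) G' < G' ∨ rslKp p (E.autGroup T) G' < G') :
    ∀ (n : ℕ) {S' : Subgroup Ω} (F' : FusionSystem S'), Ctx p Fa E F' →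
      Nat.card (F'.autGroup T) ≤ n →
      ∃ (U : Subgroup Ω) (_ : U = T ⊔ centralizerIn S' T) (F₀ : FusionSystem U),
        F₀.IsSaturated p ∧ F₀.IsInvariantIn Fa ∧ F₀.IsSubsystemOf F' ∧ E.IsNormalIn F₀ p ∧
        F₀.autGroup T = E.autGroup T ∧
        ∀ {V : Subgroup Ω} (L : FusionSystem V), L.IsResidualLimitOf F' p →
          L.IsSubsystemOf F₀ ∧ ∀ {W : Subgroup Ω} (L₀ : FusionSystem W),
            L₀.IsResidualLimitOf F₀ p → ∀ P : Subgroup Ω, L₀.Hom P = L.Hom P := by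
  have hTS₀ : T ≤ S₀ := hEa.2.1.1
  have hfinT : Finite T := Fusion.finite_of_le hTS₀
  intro n
  induction n with
  | zero =>
    intro S' F' _ hcard
    exfalso
    have : 0 < Nat.card (F'.autGroup T) := Nat.card_pos
    omega
  | succ n ih =>
    intro S' F' hctx hcard
    have hS'S₀ : S' ≤ S₀ := hctx.inv.2.1.1
    have hfinS' : Finite S' := Fusion.finite_of_le hS'S₀
    have hS' : IsPGroup p S' := hS₀.to_le hS'S₀
    have hEF' : E.IsSubsystemOf F' := hctx.nrm.1.2.2.1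
    by_cases hA : F'.autGroup T = E.autGroup T
    · -- the base case
      have hS'eq : S' = T ⊔ centralizerIn S' T := rsl_base_eq p hS' F' E hctx.nrm hA
      refine ⟨S', hS'eq, F', hctx.sat, hctx.inv, fun _ _ h => h, hctx.nrm, hA, ?_⟩
      intro V L hL
      refine ⟨rsl_limit_le p hS' F' hctx.sat L hL, fun {W} L₀ hL₀ P => ?_⟩
      exact Cfsg.Agent.Helper6.ResLim.limit_unique (fun _ => rfl) hS' hL₀ hL P
    · have hAG' : E.autGroup T ≤ F'.autGroup T := autGroup_le_of_subsystem F' E hEF' T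
      have hG'Fa : F'.autGroup T ≤ Fa.autGroup T := autGroup_le_of_subsystem Fa F' hctx.inv.1 T
      rcases hstep (F'.autGroup T) hAG' hG'Fa hA with hlt | hlt
      · -- the `p'`-step
        obtain ⟨F₁, hctx₁, hle, hcard₁, hsame⟩ := rsl_stepQ p hS₀ Fa hFa E hEa F' hctx hlt
        obtain ⟨U, hU, F₀, hsat, hinv, hF₀F₁, hEF₀, hAut, hres⟩ := ih F₁ hctx₁ (by omega)
        refine ⟨U, hU, F₀, hsat, hinv, fun P φ h => hle P (hF₀F₁ P h), hEF₀, hAut, ?_⟩
        intro V L hL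
        obtain ⟨U₁, L₁, hL₁⟩ := rsl_exists_limit p hS' F₁ hctx₁.sat
        have h1 := hsame L L₁ hL hL₁
        obtain ⟨h2, h3⟩ := hres L₁ hL₁
        refine ⟨fun P φ hφ => h2 P (by rw [← h1 P]; exact hφ), fun {W} L₀ hL₀ P => ?_⟩
        rw [h3 L₀ hL₀ P, h1 P]
      · -- the `p`-step
        obtain ⟨S₁, F₁, hctx₁, hle, hcent, hcard₁, hsame⟩ :=
          rsl_stepP p hS₀ Fa hFa E hEa F' hctx hlt
        have hS₁S₀ : S₁ ≤ S₀ := hctx₁.inv.2.1.1
        have hfinS₁ : Finite S₁ := Fusion.finite_of_le hS₁S₀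
        have hS₁ : IsPGroup p S₁ := hS₀.to_le hS₁S₀
        obtain ⟨U, hU, F₀, hsat, hinv, hF₀F₁, hEF₀, hAut, hres⟩ := ih F₁ hctx₁ (by omega)
        refine ⟨U, hU.trans (by rw [hcent]), F₀, hsat, hinv, fun P φ h => hle P (hF₀F₁ P h),
          hEF₀, hAut, ?_⟩
        intro V L hL
        obtain ⟨U₁, L₁, hL₁⟩ := rsl_exists_limit p hS₁ F₁ hctx₁.sat
        have h1 := hsame L L₁ hL hL₁
        obtain ⟨h2, h3⟩ := hres L₁ hL₁
        refine ⟨fun P φ hφ => h2 P (by rw [← h1 P]; exact hφ), fun {W} L₀ hL₀ P => ?_⟩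
        rw [h3 L₀ hL₀ P, h1 P]

end Cfsg.Agent.RSL
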