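import Mathlib
import Cfsg.Prelude.Def_FusionReduction
import Cfsg.Agent.RSL.Basic
import Cfsg.Agent.RSL.ResLim
import Cfsg.Agent.Lead.FusionStrongInvD
import Cfsg.Agent.Lead.HyperfocalGroup
import Cfsg.Agent.Lead.FusionFocal
import Cfsg.Agent.Helper6.PpiH
import Cfsg.Agent.Helper6.ResLimB

set_option autoImplicit false

/-!
# S5201, part 2: if `hyp(F₀) ≤ T`, `E ⊴ F₀` over `T` and `Aut_{F₀}(T) = Aut_E(T)`, then `F₀` and `E`
have the same residual limit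
-/

namespace Cfsg.Agent.RSL

open Cfsg Cfsg.FusionSystem Cfsg.Agent.Lead Cfsg.Agent.Lead.StrongInv

variable {Ω : Type*} [Group Ω]

theorem rsl_sameLimit_of_hyperfocal_le {U T : Subgroup Ω} [Finite U] (p : ℕ) [Fact p.Prime]
    (hU : IsPGroup p U) (F₀ : FusionSystem U) (hF₀s : F₀.IsSaturated p) (E : FusionSystem T)
    (hE₀ : E.IsNormalIn F₀ p) (hAut : F₀.autGroup T = E.autGroup T)
    (hhyp : F₀.hyperfocalSubgroup p ≤ T) : SameLimit p F₀ E := by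
  have hEs : E.IsSaturated p := hE₀.1.1
  have hinv : E.IsInvariantIn F₀ := hE₀.1.2.2
  have hEF₀ : E.IsSubsystemOf F₀ := hinv.1
  have hTU : T ≤ U := hinv.2.1.1
  have hfinT : Finite T := Fusion.finite_of_le hTU
  have hT : IsPGroup p T := hU.to_le hTU
  have hle := Fusion.hyperfocal_le F₀ p
  have hfinH : Finite (F₀.hyperfocalSubgroup p) := Fusion.finite_of_le hle
  have hHp : IsPGroup p (F₀.hyperfocalSubgroup p) := hU.to_le hle
  have hsc₀ : F₀.StronglyClosed (F₀.hyperfocalSubgroup p) :=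
    Fusion.hyperfocal_stronglyClosed p hU F₀ hF₀s
  obtain ⟨Y, ⟨hYs, hYidx⟩, -⟩ :=
    Cfsg.Agent.Helper6.Ppi.existsUnique_ppower p hU F₀ hF₀s (F₀.hyperfocalSubgroup p) hle le_rfl
  -- `Y ≤ E`
  have hYE : Y.IsSubsystemOf E := by
    intro P ψ hψ
    have hPH : P ≤ F₀.hyperfocalSubgroup p := (Y.le_of_mem hψ).1
    have hPT : P ≤ T := hPH.trans hhyp
    obtain ⟨α, hα, φ₀, hφ₀, hv⟩ := hinv.2.2.2 P hPT ψ (hYidx.1 P hψ)
    have hαE : α ∈ E.autGroup T := hAut ▸ hα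
    have hαhom := (Fusion.mem_autGroup_iff E le_rfl α).mp hαE
    have hφ₀T : ∀ x : P, φ₀ x ∈ T := (E.le_of_mem hφ₀).2
    have hcomp := E.comp_mem hφ₀ hαhom hφ₀T
    convert hcomp using 1
    ext x
    exact hv x (hφ₀T x)
  have hscE : E.StronglyClosed (F₀.hyperfocalSubgroup p) :=
    ⟨hhyp, fun R hR φ hφ x => hsc₀.2 R hR φ (hEF₀ R hφ) x⟩
  have hYidxE : Y.HasPPowerIndexIn E p := by
    refine ⟨hYE, Fusion.hyperfocal_mono p hTU E F₀ hEF₀, fun P hP => ?_⟩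
    refine le_trans ?_ (hYidx.2.2 P hP)
    have hle' : E.autGroup P ≤ F₀.autGroup P := autGroup_le_of_subsystem F₀ E hEF₀ P
    have h1 := pResidual_map_le p (Subgroup.inclusion hle')
    rintro _ ⟨β, hβ, rfl⟩
    exact ⟨Subgroup.inclusion hle' β, h1 ⟨β, hβ, rfl⟩, rfl⟩
  intro V W L₁ L₂ hL₁ hL₂ P
  obtain ⟨V', LY, hLY⟩ := rsl_exists_limit p hHp Y hYs
  have h1 := Cfsg.Agent.Helper6.ResLim.limit_of_ppower p hU F₀ hF₀s Y hYs hsc₀ hYidx L₁ hL₁ LY hLY P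
  have h2 := Cfsg.Agent.Helper6.ResLim.limit_of_ppower p hT E hEs Y hYs hscE hYidxE L₂ hL₂ LY hLY P
  rw [h1, h2]

end Cfsg.Agent.RSL
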