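import Mathlib
import Cfsg.Prelude.Def_FusionReduction
import Cfsg.Agent.RSL.Basic
import Cfsg.Agent.HFP.Wrap
import Cfsg.Agent.Lead.FusionKNorm1
import Cfsg.Agent.Lead.FusionFocal

set_option autoImplicit false

/-!
# S5202, lemmas for the `p`-step (helper8)

`S₁ = hfpSone S' T K = {s ∈ S' : c_s|T ∈ K}`:
(a) `S₁` is strongly closed in the ambient system `Fa` if it is strongly closed in `F'`, `F'` is
invariant in `Fa` and `K` is normalized by `Aut_Fa(T)`;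
(b) `T C_{S'}(T) ≤ S₁` and `C_{S₁}(T) = C_{S'}(T)`;
(c) `Aut_{F₁}(T) ≤ K` for a saturated system `F₁` over `S₁` in which `T` is strongly closed, as soon
as the `p'`-elements of `Aut_{F₁}(T)` lie in `K`.
-/

namespace Cfsg.Agent.RSL

open Cfsg Cfsg.FusionSystem Cfsg.Agent.Lead Cfsg.Agent.HFP

variable {Ω : Type*} [Group Ω]

/-- Restriction of an automorphism in the system to a strongly closed subgroup. -/
theorem rsl_sone_res {S₀ R T : Subgroup Ω} (Fa : FusionSystem S₀) (hRS : R ≤ S₀)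
    (hT : Fa.StronglyClosed T) (hTR : T ≤ R) (α : MulAut R) (hα : α ∈ Fa.autGroup R) :
    ∃ b ∈ Fa.autGroup T, ∀ t : T,
      ((b t : T) : Ω) = ((α (Subgroup.inclusion hTR t) : R) : Ω) := by
  have hst : ∀ x : R, (x : Ω) ∈ T ↔ ((α x : R) : Ω) ∈ T := by
    intro x
    constructor
    · intro hx
      exact Fusion.aut_mem_of_stronglyClosed Fa hRS hT α hα x hx
    · intro hx
      have := Fusion.aut_mem_of_stronglyClosed Fa hRS hT α⁻¹ (Subgroup.inv_mem _ hα) (α x) hx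
      rwa [MulAut.inv_apply_self] at this
  refine ⟨Fusion.resAut hTR α hst, ?_, fun t => rfl⟩
  rw [Fusion.mem_autGroup_iff Fa (hTR.trans hRS)]
  have h1 := Fusion.restrict_mem Fa ((Fusion.mem_autGroup_iff Fa hRS α).mp hα) hTR
  convert h1 using 1
  ext x
  rfl

/-- (a) `S₁` is strongly closed in the ambient system. -/
theorem rsl_sone_stronglyClosed {S₀ S' T : Subgroup Ω} (Fa : FusionSystem S₀)
    (F' : FusionSystem S') (hinv : F'.IsInvariantIn Fa) (hTa : Fa.StronglyClosed T) (hTS' : T ≤ S')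
    (K : Subgroup (MulAut T)) (hKa : ∀ a ∈ Fa.autGroup T, ∀ k ∈ K, a * k * a⁻¹ ∈ K)
    (hS1 : F'.StronglyClosed (hfpSone S' T K)) : Fa.StronglyClosed (hfpSone S' T K) := by
  have hS'S₀ : S' ≤ S₀ := hinv.2.1.1
  refine ⟨(hfpSone_le S' T K).trans hS'S₀, fun R hR φ hφ x => ?_⟩
  have hRS' : R ≤ S' := hR.trans (hfpSone_le S' T K)
  obtain ⟨α, hα, φ₀, hφ₀, hv⟩ := hinv.2.2.2 R hRS' φ hφ
  have h0 : φ₀ x ∈ hfpSone S' T K := hS1.2 R hR φ₀ hφ₀ x
  have hx' : φ₀ x ∈ S' := hfpSone_le S' T K h0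
  rw [hv x hx']
  obtain ⟨aT, haT, haTv⟩ := rsl_sone_res Fa hS'S₀ hTa hTS' α hα
  obtain ⟨-, k, hk, hks⟩ := h0
  obtain ⟨s, hs⟩ : ∃ s : S', s = ⟨φ₀ x, hx'⟩ := ⟨_, rfl⟩
  rw [← hs]
  have hks' : ∀ t : T, ((k t : T) : Ω) = (s : Ω) * t * (s : Ω)⁻¹ := by
    intro t; rw [hs]; exact hks t
  refine ⟨(α s).2, aT * k * aT⁻¹, hKa aT haT k hk, fun t => ?_⟩
  have e1 : α (Subgroup.inclusion hTS' (aT⁻¹ t)) = Subgroup.inclusion hTS' t := by
    apply Subtype.ext
    rw [← haTv, MulAut.apply_inv_self]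
    rfl
  have e2 : Subgroup.inclusion hTS' (k (aT⁻¹ t)) =
      s * Subgroup.inclusion hTS' (aT⁻¹ t) * s⁻¹ := Subtype.ext (hks' (aT⁻¹ t))
  rw [MulAut.mul_apply, MulAut.mul_apply, haTv, e2, map_mul, map_mul, map_inv, e1]
  rfl

/-- `Aut_{S₁}(T) ≤ K`. -/
theorem rsl_sone_autInducedBy_le {S' T : Subgroup Ω} (K : Subgroup (MulAut T)) :
    autInducedBy (hfpSone S' T K) T ≤ K := by
  unfold autInducedBy
  rw [Subgroup.closure_le]
  rintro α ⟨g, ⟨-, k, hk, hkg⟩, hα⟩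
  have : α = k := by
    ext t
    rw [hα t, hkg t]
  rw [SetLike.mem_coe, this]
  exact hk

/-- (b) `T C_{S'}(T) ≤ S₁`. -/
theorem rsl_sone_le {S' T : Subgroup Ω} (hTS' : T ≤ S') (K : Subgroup (MulAut T))
    (hInn : autInducedBy T T ≤ K) : T ⊔ centralizerIn S' T ≤ hfpSone S' T K := by
  apply sup_le
  · intro t ht
    have hn : t ∈ Subgroup.normalizer (T : Set Ω) := Subgroup.le_normalizer ht
    exact ⟨hTS' ht, conjAutHom T ⟨t, hn⟩,
      hInn (Fusion.conjAutHom_mem_autInducedBy T ⟨t, hn⟩ ht), fun _ => rfl⟩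
  · intro c hc
    obtain ⟨hcS, hcC⟩ := Subgroup.mem_inf.mp hc
    rw [Subgroup.mem_centralizer_iff] at hcC
    refine ⟨hcS, 1, K.one_mem, fun t => ?_⟩
    rw [MulAut.one_apply, ← hcC t t.2]
    group

/-- (b') `C_{S₁}(T) = C_{S'}(T)`. -/
theorem rsl_sone_centralizerIn_eq {S' T : Subgroup Ω} (hTS' : T ≤ S') (K : Subgroup (MulAut T))
    (hInn : autInducedBy T T ≤ K) :
    centralizerIn (hfpSone S' T K) T = centralizerIn S' T := by
  apply le_antisymm
  · intro c hc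
    obtain ⟨h1, h2⟩ := Subgroup.mem_inf.mp hc
    exact Subgroup.mem_inf.mpr ⟨hfpSone_le S' T K h1, h2⟩
  · intro c hc
    have h1 := rsl_sone_le hTS' K hInn ((le_sup_right : centralizerIn S' T ≤ _) hc)
    exact Subgroup.mem_inf.mpr ⟨h1, (Subgroup.mem_inf.mp hc).2⟩

/-- (c) `Aut_{F₁}(T) ≤ K`. -/
theorem rsl_sone_autGroup_le {S₁ T : Subgroup Ω} [Finite S₁] (p : ℕ) [Fact p.Prime]
    (hS₁ : IsPGroup p S₁) (F₁ : FusionSystem S₁) (hF₁ : F₁.IsSaturated p)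
    (hT : F₁.StronglyClosed T) (K : Subgroup (MulAut T)) (hSK : autInducedBy S₁ T ≤ K)
    (hcop : ∀ g ∈ F₁.autGroup T, (orderOf g).Coprime p → g ∈ K) : F₁.autGroup T ≤ K := by
  have hTS : T ≤ S₁ := hT.1
  have : Finite T := Fusion.finite_of_le hTS
  have : Finite (MulAut T) := inferInstance
  have hW := Fusion.weaklyClosed_of_stronglyClosed F₁ hT
  have hfn : F₁.IsFullyNormalized T := by
    refine ⟨hTS, fun Q hQ => ?_⟩
    obtain ⟨φ, hφ, hr⟩ := hQ
    have := hW.2 φ hφ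
    rw [hr] at this
    rw [this]
  obtain ⟨-, hfa⟩ := Fusion.fullyCentralized_fullyAutomized_of_fullyNormalized p hS₁ F₁ hF₁ hfn
  obtain ⟨R, hR⟩ := hfa.2
  have hgen := pResidual_sup_sylow' R
  have hle : pResidual p ↥(F₁.autGroup T) ⊔ (R : Subgroup ↥(F₁.autGroup T)) ≤
      K.subgroupOf (F₁.autGroup T) := by
    apply sup_le
    · unfold pResidual
      rw [Subgroup.closure_le]
      intro g hg
      have hg' : (orderOf g).Coprime p := hg
      rw [SetLike.mem_coe, Subgroup.mem_subgroupOf]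
      apply hcop g.1 g.2
      rw [Subgroup.orderOf_coe]
      exact hg'
    · rw [hR]
      intro g hg
      rw [Subgroup.mem_subgroupOf] at hg ⊢
      exact hSK hg
  intro a ha
  have h1 : (⟨a, ha⟩ : ↥(F₁.autGroup T)) ∈ (⊤ : Subgroup ↥(F₁.autGroup T)) := Subgroup.mem_top _
  rw [← hgen] at h1
  have h2 := hle h1
  rwa [Subgroup.mem_subgroupOf] at h2

end Cfsg.Agent.RSL
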